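/-
A conjugate of `z` acting as `L0` whose only functional is the fifth coordinate.

* `seed_plain` : the functional vanishes on one side; `exists_seed` : normalised by a reflection
-/
import Cfsg.Agent.Lib.CoType.Main

set_option autoImplicit false
open scoped commutatorElement

namespace Cfsg.Agent.CoOneA

open Cfsg.Agent.CoType Cfsg.Agent.Orth Cfsg.Agent.LargeExtraspecial Cfsg.Agent.LargeExtraspecial.Cfg
open QuadraticMap (polar)

variable {G : Type*} [Group G]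

/-- The twist by an arbitrary isometry. -/
noncomputable def twistIso (T : Co G) (ω : IsoGrp qm) : Co G where
  z := T.z
  Q := T.Q
  data := T.data
  card_Q := T.card_Q
  c x := ap ω (T.c x)
  ρ g := ω * T.ρ g * ω⁻¹
  c_mul x hx y hy := by rw [T.c_mul x hx y hy, map_add]
  c_ker x hx h := T.c_ker x hx (ap_inj ω (by rw [h, map_zero]))
  c_surj w := by
    obtain ⟨x, hx, hxc⟩ := T.c_surj (ap ω⁻¹ w)
    exact ⟨x, hx, by rw [hxc, ap_ap_inv]⟩
  sq x hx := by rw [Q_ap]; exact T.sq x hx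
  ρ_mul g h hg hh := by rw [T.ρ_mul g h hg hh]; group
  ρ_conj g hg x hx := by rw [T.ρ_conj g hg x hx, ap_mul, ap_mul, ap_inv_ap]
  ρ_ker g hg := by rw [← T.ρ_ker g hg, mul_inv_eq_one, mul_eq_left]
  ρ_mem g hg := (Subgroup.normal_of_index_eq_two index_omega).conj_mem _ (T.ρ_mem g hg) ω
  ρ_surj η hη := by
    obtain ⟨g, hg, hgρ⟩ := T.ρ_surj (ω⁻¹ * η * ω) (by
      simpa using (Subgroup.normal_of_index_eq_two index_omega).conj_mem _ hη ω⁻¹)
    exact ⟨g, hg, by rw [hgρ]; group⟩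
  wc := T.wc

theorem qU_swap : qU (E4 + E5) = 1 := by decide

/-- The exchange of the last two coordinates. -/
noncomputable def swIso : IsoGrp qm := refl qm (io (E4 + E5))

theorem ap_swIso_inv (x : V8) : ap swIso⁻¹ x = ap swIso x := by
  refine ap_inj swIso ?_
  rw [ap_ap_inv, swIso, refl_io_ap _ qU_swap, refl_io_ap _ qU_swap, pu_add, pu_smul, pu_io,
    bU_add_right, bU_smul_right, bU_self, mul_zero, add_zero, add_assoc, ← add_smul,
    ZModModule.add_self, zero_smul, add_zero]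

theorem dot_rU (p : ZMod 2 × ZMod 2) (t : U6) :
    CoType.dot p (rU (E4 + E5) t) = CoType.dot (p.2, p.1) t := by
  have h : ∀ a b s r : ZMod 2, a * (r + (s + r)) + b * (s + (s + r)) = b * r + a * s := by decide
  have h4 : rU (E4 + E5) t 4 = t 4 + (t 5 + t 4) := by simp [rU, bU, E4, E5]
  have h5 : rU (E4 + E5) t 5 = t 5 + (t 5 + t 4) := by simp [rU, bU, E4, E5]
  simp only [CoType.dot, h4, h5]
  exact h _ _ _ _

theorem L0_rU : ∀ t : U6, rU (E4 + E5) (L0 (rU (E4 + E5) t)) = L0 t := by decide +kernel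
theorem L0_rU_comm : ∀ t : U6, L0 (rU (E4 + E5) t) = rU (E4 + E5) (L0 t) := by decide +kernel

/-- A seed: an element acting as `L0` with a single functional. -/
def Seed (F : Fr G) (k : ZMod 2 × ZMod 2) (τ : G) : Prop :=
  τ ∈ F.D ∧ τ * τ = 1 ∧ (∀ t, F.lm τ t = L0 t) ∧ IsConj F.z τ ∧ F.Vals τ (0, 0) (0, 0) k (0, 0)

variable [Finite G]

/-- The seed before normalisation. -/
theorem seed_plain (F : Fr G) : ∃ τ k, Seed F k τ ∧ (k = (0, 1) ∨ k = (1, 0)) := by
  obtain ⟨τ, g, k, hτ, hτ2, hτL, hv, hk, hc, w, g', th', d', hw, hw2, hwL, hvw, -⟩ := F.exists_ref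
  have hτz := (F.mem_D.1 hτ).1
  have hQ : τ ∉ F.Q := fun h => by
    have e := hτL E1
    rw [Fr.lm, F.T.ρ_Q h, ap_one, pu_io] at e
    exact absurd e (by decide +kernel)
  have hside : F.Side τ := F.side_of_vals hτ hτL hv rfl
  -- the functional on the radical vanishes
  obtain ⟨c, hcz, hK⟩ := F.classify_thin hτz hτ2 hQ (F.thin_of_side hτ hτ2 hside)
  have hcc : IsConj F.z (c * τ * c⁻¹) := hc.trans (isConj_iff.2 ⟨c, rfl⟩)
  have hP : c * τ * c⁻¹ ∈ F.P := by
    rcases hK with h | h | h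
    · exact h
    · exact absurd hcc (F.typ_not_conj pairB fixedB h)
    · exact absurd hcc (F.typ_not_conj pairC fixedC h)
  have hg0 : ∀ e : U6, L0 e = e → CoType.dot g e = 0 := by
    intro e he
    rcases z2 (CoType.dot g e) with h | h
    · exact h
    exfalso
    obtain ⟨a, ha, hκ⟩ := F.κ_surj e
    have hA := hv.valA a ha (by rw [hκ, he])
    rw [hκ, h] at hA
    have h0 : CoType.dot ((0 : ZMod 2), (0 : ZMod 2)) e = 0 := by simp [CoType.dot]
    rw [h0, pw_one, pw_zero, mul_one] at hA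
    refine F.noZ hP ((Commute.mul_left hcz hτz).mul_left (Commute.inv_left hcz)).eq
      (fun h => hQ ((F.T.data.norm_iff c hcz τ).1 h)) (F.T.data.norm c hcz a (mem_A.mp ha).1) ?_
    rw [show ⁅c * τ * c⁻¹, c * a * c⁻¹⁆ = c * ⁅τ, a⁆ * c⁻¹ by
      simp only [commutatorElement_def]; group, hA]
    exact mul_inv_eq_iff_eq_mul.mpr hcz
  have a4 := hg0 E4 L0_E4
  have a5 := hg0 E5 L0_E5
  simp [CoType.dot, E4, E5] at a4 a5
  obtain rfl : g = (0, 0) := Prod.ext a4 a5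
  -- the remaining functional is singular
  obtain ⟨a, r, ha, hr, hvw', w1, -⟩ := F.translate hτ hτ2 hτL hw hw2 hwL hv
  have key : ∀ e : U6, L0 e = e →
      CoType.dot ((0 : ZMod 2), (0 : ZMod 2)) e = CoType.dot (k.1 + a 5, k.2 + a 4) e := by
    intro e he
    obtain ⟨y, hy, hθy⟩ := F.θ_surj e
    have k2 := (hvw.valB y hy (by rw [hθy, he])).symm.trans (hvw'.valB y hy (by rw [hθy, he]))
    rw [hθy] at k2
    exact (F.vz_inj k2).1
  have q4 := key E4 L0_E4
  have q5 := key E5 L0_E5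
  simp [CoType.dot, E4, E5] at q4 q5
  have ka5 : a 5 = k.1 := (CoType.add_eq_zero_z2 q4.symm).symm
  have ka4 : a 4 = k.2 := (CoType.add_eq_zero_z2 q5.symm).symm
  rw [qU_fixed ha, bU_fixed ha hr] at w1
  simp only [CoType.dot, ka4, ka5] at w1
  refine ⟨τ, k, ⟨hτ, hτ2, hτL, hc, hv⟩, ?_⟩
  have hk' : ∀ x y u v : ZMod 2, (x, y) ≠ (0, 0) →
      0 * y + 0 * x + (x * u + y * v) + (y * x + (y * v + x * u)) = 0 → (x, y) = (0, 1) ∨ (x, y) = (1, 0) := by
    decide
  exact hk' k.1 k.2 (r 4) (r 5) hk w1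

/-- The frame with the exchanged coordinates. -/
theorem seed_swap (F : Fr G) {τ : G} {k : ZMod 2 × ZMod 2} (h : Seed F k τ) :
    ∃ F' : Fr G, F'.z = F.z ∧ Seed F' (k.2, k.1) τ := by
  have hcv : ap swIso (F.T.c (F.h * F.T.z * F.h⁻¹)) = v0 := by
    rw [F.cv, swIso, refl_fix _ qU_swap pu_v0]
  let F' : Fr G := ⟨twistIso F.T swIso, F.h, F.hv, hcv⟩
  refine ⟨F', rfl, ?_⟩
  obtain ⟨hD, h2, hL, hc, hv⟩ := h
  have hκ : ∀ x, F'.κ x = rU (E4 + E5) (F.κ x) := fun x => pu_refl _ qU_swap _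
  have hθ : ∀ x, F'.θ x = rU (E4 + E5) (F.θ x) := by
    intro x
    show pu (ap (swIso * F.T.ρ x * swIso⁻¹) p0) = _
    have e : ap swIso⁻¹ p0 = p0 := by rw [ap_swIso_inv, swIso, refl_fix _ qU_swap pu_p0]
    rw [ap_mul, ap_mul, e, swIso, pu_refl _ qU_swap]
    rfl
  have hlm : ∀ x t, F'.lm x t = rU (E4 + E5) (F.lm x (rU (E4 + E5) t)) := by
    intro x t
    show pu (ap (swIso * F.T.ρ x * swIso⁻¹) (io t)) = _
    have e : ap swIso⁻¹ (io t) = io (rU (E4 + E5) t) := by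
      rw [ap_swIso_inv, swIso, refl_io_ap _ qU_swap, pu_io, rU, io_add]
      congr 1
      rcases z2 (bU (E4 + E5) t) with k | k <;> rw [k] <;> simp [io_add]
    rw [ap_mul, ap_mul, e, swIso, pu_refl _ qU_swap]
    rfl
  refine ⟨hD, h2, fun t => ?_, hc, ⟨fun a ha he => ?_, fun b hb he => ?_⟩⟩
  · rw [hlm, hL, L0_rU]
  · have he' : L0 (F.κ a) = F.κ a := by
      have := congrArg (rU (E4 + E5)) he
      rwa [hκ, rU_rU, L0_rU_comm, rU_rU] at this
    rw [hκ, dot_rU]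
    exact hv.valA a ha he'
  · have he' : L0 (F.θ b) = F.θ b := by
      have := congrArg (rU (E4 + E5)) he
      rwa [hθ, rU_rU, L0_rU_comm, rU_rU] at this
    rw [hθ, dot_rU, dot_rU]
    exact hv.valB b hb he'

/-- A frame with the seed functional the fifth coordinate. -/
theorem exists_seed (T : Co G) : ∃ F : Fr G, F.z = T.z ∧ ∃ τ, Seed F (0, 1) τ := by
  obtain ⟨T', hz, h, hQ, hc⟩ := T.exists_normalised
  obtain ⟨τ, k, hs, rfl | rfl⟩ := seed_plain (⟨T', h, hQ, hc⟩ : Fr G)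
  · exact ⟨_, hz, τ, hs⟩
  · obtain ⟨F', hF', hs'⟩ := seed_swap _ hs
    exact ⟨F', hF'.trans hz, τ, hs'⟩

end Cfsg.Agent.CoOneA
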