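/-
The symmetric group of degree three on `⟨z, v⟩` and its centraliser in `D`.

* `Crd` : the coordinates of the elements of `A B`
* `p`, `q`, `om` : two involutions with product of order three
* `K` : the centraliser of `om` in `D`, isomorphic to its middle action (`K_inj`, `exists_K`)
* `exists_val` : the functional of an element of `K` on its fixed vectors
-/
import Cfsg.Agent.Lib.CoOneA.Seed

set_option autoImplicit false
open scoped commutatorElement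

namespace Cfsg.Agent.CoOneA

open Cfsg.Agent.CoType Cfsg.Agent.Orth Cfsg.Agent.LargeExtraspecial Cfsg.Agent.LargeExtraspecial.Cfg
open QuadraticMap (polar)

variable {G : Type*} [Group G] (F : Fr G)

/-- The coordinates of an element of `A B`. -/
def Crd (x : G) (s t : U6) : Prop :=
  ∃ a ∈ A F.Q F.v, ∃ b ∈ A F.P F.z, x = a * b ∧ F.κ a = s ∧ F.θ b = t

variable {F} [Finite G]

theorem κ_one : F.κ 1 = 0 := by rw [Fr.κ, F.T.c_one, pu_zero]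

theorem crd_A {a : G} (ha : a ∈ A F.Q F.v) : Crd F a (F.κ a) 0 :=
  ⟨a, ha, 1, one_mem _, (mul_one a).symm, rfl, F.θ_one⟩

theorem crd_B {b : G} (hb : b ∈ A F.P F.z) : Crd F b 0 (F.θ b) :=
  ⟨1, one_mem _, b, hb, (one_mul b).symm, κ_one, rfl⟩

theorem crd_one : Crd F (1 : G) 0 0 := ⟨1, one_mem _, 1, one_mem _, (one_mul 1).symm, κ_one, F.θ_one⟩

theorem crd_uniq {x : G} {s t s' t' : U6} (h : Crd F x s t) (h' : Crd F x s' t') : s = s' ∧ t = t' := by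
  obtain ⟨a, ha, b, hb, rfl, rfl, rfl⟩ := h
  obtain ⟨a', ha', b', hb', e, rfl, rfl⟩ := h'
  exact F.eq_AB ha ha' hb hb' e

theorem crd_R {x : G} {s t : U6} (h : Crd F x s t) : x ∈ F.R := by
  obtain ⟨a, ha, b, hb, rfl, -, -⟩ := h
  exact F.cfg.mem_R.mpr ⟨a, ha, b, hb, rfl⟩

theorem exists_crd {x : G} (h : x ∈ F.R) : ∃ s t, Crd F x s t := by
  obtain ⟨a, ha, b, hb, rfl⟩ := F.cfg.mem_R.mp h
  exact ⟨_, _, a, ha, b, hb, rfl, rfl, rfl⟩

theorem crd_D {x : G} {s t : U6} (h : Crd F x s t) : x ∈ F.D := F.R_le_D (crd_R h)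

theorem crd_mul {x y : G} {s t s' t' : U6} (h : Crd F x s t) (h' : Crd F y s' t') :
    Crd F (x * y) (s + s') (t + t') := by
  obtain ⟨a, ha, b, hb, rfl, rfl, rfl⟩ := h
  obtain ⟨a', ha', b', hb', rfl, rfl, rfl⟩ := h'
  have hn := F.A_norm (F.B_le_D hb) ha'
  refine ⟨a * (b * a' * b⁻¹), mul_mem ha hn, b * b', mul_mem hb hb', by group, ?_, F.θ_mul hb hb'⟩
  rw [F.κ_mul (mem_A.mp ha).1 (mem_A.mp hn).1, F.κ_conj_B hb ha']

theorem crd_inv {x : G} {s t : U6} (h : Crd F x s t) : Crd F x⁻¹ s t := by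
  obtain ⟨a, ha, b, hb, rfl, rfl, rfl⟩ := h
  have e := crd_mul (crd_B (inv_mem hb)) (crd_A (inv_mem ha))
  rw [zero_add, add_zero, F.κ_inv (mem_A.mp ha).1, F.θ_inv hb, ← mul_inv_rev] at e
  exact e

theorem crd_conj_D {d x : G} {s t : U6} (hd : d ∈ F.D) (h : Crd F x s t) :
    Crd F (d * x * d⁻¹) (F.lm d s) (F.lm d t) := by
  obtain ⟨a, ha, b, hb, rfl, rfl, rfl⟩ := h
  exact ⟨_, F.A_norm hd ha, _, F.B_norm hd hb, by group, F.κ_lm hd ha, F.θ_lm hd hb⟩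

theorem crd_vz (i j : ZMod 2) : Crd F (pw F.z i * pw F.v j) 0 0 := by
  have h := crd_A (mul_mem (pw_mem F.z_mem_A i) (pw_mem F.v_mem_A j))
  rwa [F.κ_four] at h

theorem crd_zero {x : G} (h : Crd F x 0 0) : ∃ i j, x = pw F.z i * pw F.v j := by
  obtain ⟨a, ha, b, hb, rfl, h1, h2⟩ := h
  exact F.E_inV (mul_mem (F.ker_κ ha h1) (F.θ_ker hb h2))

/-- The symmetric group of degree three on the four group. -/
structure Sym3 (F : Fr G) where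
  p : G
  q : G
  p_mem : p ∈ F.Q
  p_c : F.T.c p = p0
  q_mem : q ∈ F.P
  q_sq : q * q = 1
  q_z : q * F.z * q⁻¹ = F.z * F.v
  q_crd : ∀ a ∈ A F.Q F.v, Crd F (q * a * q⁻¹) (F.κ a) (F.κ a)

theorem exists_sym3 (F : Fr G) : Nonempty (Sym3 F) := by
  obtain ⟨p, hp, hpc⟩ := F.T.c_surj p0
  obtain ⟨σ, s1, s2⟩ := F.swap
  obtain ⟨i1, i2⟩ := F.swap_inv s1 s2
  have hp2 : p * p = 1 := by
    rw [F.T.sq p hp, hpc, qm_eq, cv_p0, pu_p0, qU_zero, zero_mul, add_zero, pw_zero]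
  have hqP : σ * p * σ⁻¹ ∈ F.P := by
    have hP : conjS σ F.Q = F.P := F.T.data.conjS_eq_of_conj_eq s1
    exact hP ▸ ⟨p, hp, rfl⟩
  have hqz : σ * p * σ⁻¹ * F.z * (σ * p * σ⁻¹)⁻¹ = F.z * F.v := by
    calc σ * p * σ⁻¹ * F.z * (σ * p * σ⁻¹)⁻¹
        = σ * (p * (σ⁻¹ * F.z * σ⁻¹⁻¹) * p⁻¹) * σ⁻¹ := by group
      _ = σ * (F.v * F.z) * σ⁻¹ := by rw [i1, F.conj_p hp hpc]
      _ = (σ * F.v * σ⁻¹) * (σ * F.z * σ⁻¹) := by group
      _ = _ := by rw [s1, s2]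
  refine ⟨⟨p, σ * p * σ⁻¹, hp, hpc, hqP, conj_invol hp2, hqz, fun a ha => ?_⟩⟩
  set q := σ * p * σ⁻¹ with hq
  have ha' := (F.swap_maps i1 i2).1 a ha
  obtain ⟨a'', ha'', hconj, -⟩ := F.conj_B_gen hp (by rw [hpc, cp_p0]) ha'
  have hb := (F.swap_maps s1 s2).1 a'' ha''
  set b := σ * a'' * σ⁻¹ with hbdef
  have e : q * a * q⁻¹ = b * a := by
    calc q * a * q⁻¹ = σ * (p * (σ⁻¹ * a * σ⁻¹⁻¹) * p⁻¹) * σ⁻¹ := by rw [hq]; group
      _ = _ := by rw [hconj, hbdef]; group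
  have hc : Crd F (q * a * q⁻¹) (F.κ a) (F.θ b) := by
    rw [e]
    simpa using crd_mul (crd_B hb) (crd_A ha)
  suffices h : F.θ b = F.κ a by rwa [h] at hc
  refine bU_ext _ _ fun w => ?_
  obtain ⟨b2, hb2, hθ2⟩ := F.θ_surj w
  obtain ⟨i, hi⟩ : ∃ i, q * b2 * q⁻¹ = pw F.v i * b2 := by
    rcases F.dP.comm q hqP b2 (mem_A.mp hb2).1 with h | h <;> rw [commutatorElement_def] at h
    · exact ⟨0, by rw [pw_zero, one_mul]; exact mul_inv_eq_one.mp h⟩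
    · exact ⟨1, by rw [pw_one]; exact mul_inv_eq_iff_eq_mul.mp h⟩
  have hba : ⁅b2, b * a⁆ = pw F.z (bU (F.κ a) w) * pw F.v (bU w (F.θ b) + bU (F.κ a) w) := by
    have c1 := F.comm_ba ha hb2
    rw [hθ2] at c1
    have c2 := F.comm_BB hb2 hb
    rw [hθ2] at c2
    have hm := F.V_fix (F.B_le_D hb) (F.comm_ba_mem ha hb2)
    calc ⁅b2, b * a⁆ = ⁅b2, b⁆ * (b * ⁅b2, a⁆ * b⁻¹) := by simp only [commutatorElement_def]; group
      _ = _ := by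
        rw [hm, mul_inv_cancel_right, c1, c2]
        conv_lhs => rw [show pw F.v (bU w (F.θ b)) = pw F.z 0 * pw F.v (bU w (F.θ b)) by
          rw [pw_zero, one_mul]]
        rw [F.vz_mul, zero_add]
  have hi' : ⁅pw F.v i * b2, b * a⁆ = ⁅b2, b * a⁆ := by
    have hd := crd_D (crd_mul (crd_B hb) (crd_A ha))
    have hv : Commute (pw F.v i) (b * a) :=
      (pw_comm (b * a) (F.mem_D.1 hd).2 i).symm
    have hv' : Commute (pw F.v i) ⁅b2, b * a⁆ := by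
      rw [hba]
      have h := F.D_fix_V (F.B_le_D (pw_mem F.v_mem_B i)) (bU (F.κ a) w)
        (bU w (F.θ b) + bU (F.κ a) w)
      exact h
    calc ⁅pw F.v i * b2, b * a⁆ = pw F.v i * ⁅b2, b * a⁆ * (pw F.v i)⁻¹ * ⁅pw F.v i, b * a⁆ := by
          simp only [commutatorElement_def]; group
      _ = _ := by rw [commutatorElement_eq_one_iff_mul_comm.mpr hv.eq, mul_one, hv'.eq,
          mul_inv_cancel_right]
  have key : ⁅b2, b * a⁆ = q * ⁅b2, a⁆ * q⁻¹ := by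
    rw [← hi', ← hi, ← e]; simp only [commutatorElement_def]; group
  rw [hba, F.comm_ba ha hb2, hθ2, show q * (pw F.z (bU (F.κ a) w) * pw F.v (bU (F.κ a) w)) * q⁻¹ =
    (q * pw F.z (bU (F.κ a) w) * q⁻¹) * (q * pw F.v (bU (F.κ a) w) * q⁻¹) by group, pw_map, pw_map,
    hqz, mul_inv_eq_iff_eq_mul.mpr (F.dP.z_central q hqP)] at key
  have h3 : pw (F.z * F.v) (bU (F.κ a) w) * pw F.v (bU (F.κ a) w) = pw F.z (bU (F.κ a) w) * pw F.v 0 := by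
    rcases z2 (bU (F.κ a) w) with k | k <;> rw [k]
    · simp
    · rw [pw_one, pw_one, pw_one, pw_zero, mul_one, mul_assoc, F.v_sq, mul_one]
  rw [h3] at key
  have := (F.vz_inj key).2
  rw [bU_comm (F.θ b)]
  exact CoType.add_eq_zero_z2 this

namespace Sym3

variable (S : Sym3 F)

theorem p_z : S.p * F.z = F.z * S.p := F.T.Qz S.p_mem

theorem p_sq : S.p * S.p = 1 := by
  rw [F.T.sq S.p S.p_mem, S.p_c, qm_eq, cv_p0, pu_p0, qU_zero, zero_mul, add_zero, pw_zero]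

theorem p_inv : S.p⁻¹ = S.p := inv_eq_of_mul_eq_one_right S.p_sq
theorem q_inv : S.q⁻¹ = S.q := inv_eq_of_mul_eq_one_right S.q_sq
theorem p_cz : S.p * F.z * S.p⁻¹ = F.z := mul_inv_eq_iff_eq_mul.mpr S.p_z
theorem p_cv : S.p * F.v * S.p⁻¹ = F.v * F.z := F.conj_p S.p_mem S.p_c
theorem q_cv : S.q * F.v * S.q⁻¹ = F.v := mul_inv_eq_iff_eq_mul.mpr (F.dP.z_central S.q S.q_mem)

theorem p_V (i j : ZMod 2) :
    S.p * (pw F.z i * pw F.v j) * S.p⁻¹ = pw F.z (i + j) * pw F.v j := by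
  rw [show S.p * (pw F.z i * pw F.v j) * S.p⁻¹ = (S.p * pw F.z i * S.p⁻¹) * (S.p * pw F.v j * S.p⁻¹) by
    group, pw_map, pw_map, S.p_cz, S.p_cv]
  have e : pw (F.v * F.z) j = pw F.z j * pw F.v j := by
    rcases z2 j with rfl | rfl
    · simp
    · rw [pw_one, pw_one, pw_one]; exact F.zv.symm
  rw [e, ← mul_assoc, ← pw_add F.z_sq]

theorem q_V (i j : ZMod 2) :
    S.q * (pw F.z i * pw F.v j) * S.q⁻¹ = pw F.z i * pw F.v (i + j) := by
  rw [show S.q * (pw F.z i * pw F.v j) * S.q⁻¹ = (S.q * pw F.z i * S.q⁻¹) * (S.q * pw F.v j * S.q⁻¹) by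
    group, pw_map, pw_map, S.q_z, S.q_cv]
  have e : pw (F.z * F.v) i = pw F.z i * pw F.v i := by
    rcases z2 i with rfl | rfl <;> simp
  rw [e, mul_assoc, ← pw_add F.v_sq]

theorem crd_p {x : G} {s t : U6} (h : Crd F x s t) : Crd F (S.p * x * S.p⁻¹) (s + t) t := by
  obtain ⟨a, ha, b, hb, rfl, rfl, rfl⟩ := h
  obtain ⟨a', ha', e, hκ⟩ := F.conj_B_gen S.p_mem (by rw [S.p_c, cp_p0]) hb
  have hn : S.p * a * S.p⁻¹ ∈ F.Q :=
    mul_mem (mul_mem S.p_mem (mem_A.mp ha).1) (inv_mem S.p_mem)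
  have hc : F.T.c (S.p * a * S.p⁻¹) = F.T.c a := by
    rw [F.T.c_mul _ (mul_mem S.p_mem (mem_A.mp ha).1) _ (inv_mem S.p_mem),
      F.T.c_mul _ S.p_mem _ (mem_A.mp ha).1, F.T.c_inv S.p_mem, add_comm (F.T.c S.p), add_assoc,
      ZModModule.add_self, add_zero]
  have hnA : S.p * a * S.p⁻¹ ∈ A F.Q F.v :=
    F.mem_A_iff.2 ⟨hn, by rw [hc]; exact (F.mem_A_iff.1 ha).2⟩
  refine ⟨_, mul_mem hnA ha', b, hb, ?_, ?_, rfl⟩
  · rw [mul_assoc (S.p * a * S.p⁻¹), ← e]; group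
  · rw [F.κ_mul (mem_A.mp hnA).1 (mem_A.mp ha').1, hκ]
    congr 1
    exact congrArg pu hc

theorem crd_q {x : G} {s t : U6} (h : Crd F x s t) : Crd F (S.q * x * S.q⁻¹) s (t + s) := by
  obtain ⟨a, ha, b, hb, rfl, rfl, rfl⟩ := h
  have h2 : Crd F (S.q * b * S.q⁻¹) 0 (F.θ b) := by
    rcases F.dP.comm S.q S.q_mem b (mem_A.mp hb).1 with e | e <;> rw [commutatorElement_def] at e
    · rw [mul_inv_eq_one.mp e]; exact crd_B hb
    · rw [mul_inv_eq_iff_eq_mul.mp e]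
      simpa [pw] using crd_mul (crd_vz (F := F) 0 1) (crd_B hb)
  have h := crd_mul (S.q_crd a ha) h2
  rw [add_zero, add_comm (F.κ a) (F.θ b)] at h
  rwa [show S.q * a * S.q⁻¹ * (S.q * b * S.q⁻¹) = S.q * (a * b) * S.q⁻¹ by group] at h

/-- The element of order three. -/
def om : G := S.p * S.q

theorem om_V (i j : ZMod 2) :
    S.om * (pw F.z i * pw F.v j) * S.om⁻¹ = pw F.z j * pw F.v (i + j) := by
  rw [show S.om * (pw F.z i * pw F.v j) * S.om⁻¹ =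
    S.p * (S.q * (pw F.z i * pw F.v j) * S.q⁻¹) * S.p⁻¹ by rw [om]; group, S.q_V, S.p_V,
    ← add_assoc, ZModModule.add_self, zero_add]

theorem crd_om {x : G} {s t : U6} (h : Crd F x s t) : Crd F (S.om * x * S.om⁻¹) t (t + s) := by
  have e := S.crd_p (S.crd_q h)
  rw [← add_assoc, add_comm s t, add_assoc, ZModModule.add_self, add_zero] at e
  rwa [show S.p * (S.q * x * S.q⁻¹) * S.p⁻¹ = S.om * x * S.om⁻¹ by rw [om]; group] at e

theorem conj_mem_D {g d : G} (hz : ∃ i j, g⁻¹ * F.z * g = pw F.z i * pw F.v j)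
    (hv : ∃ i j, g⁻¹ * F.v * g = pw F.z i * pw F.v j) (hd : d ∈ F.D) : g * d * g⁻¹ ∈ F.D := by
  obtain ⟨i, j, e⟩ := hz
  obtain ⟨i', j', e'⟩ := hv
  refine F.mem_D.2 ⟨?_, ?_⟩
  · have h := congrArg (fun r => g * r * g⁻¹) (F.D_fix_V hd i j)
    rw [← e] at h
    simpa [mul_assoc] using h
  · have h := congrArg (fun r => g * r * g⁻¹) (F.D_fix_V hd i' j')
    rw [← e'] at h
    simpa [mul_assoc] using h

theorem p_D {d : G} (hd : d ∈ F.D) : S.p * d * S.p⁻¹ ∈ F.D :=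
  conj_mem_D ⟨1, 0, by
      calc S.p⁻¹ * F.z * S.p = S.p⁻¹ * (S.p * F.z * S.p⁻¹) * S.p := by rw [S.p_cz]
        _ = _ := by rw [pw_one, pw_zero, mul_one]; group⟩
    ⟨1, 1, by
      have h := S.p_V 1 1
      rw [show (1 : ZMod 2) + 1 = 0 by decide, pw_zero, one_mul] at h
      calc S.p⁻¹ * F.v * S.p = S.p⁻¹ * (S.p * (pw F.z 1 * pw F.v 1) * S.p⁻¹) * S.p := by
            rw [h, pw_one]
        _ = _ := by group⟩ hd

theorem q_D {d : G} (hd : d ∈ F.D) : S.q * d * S.q⁻¹ ∈ F.D :=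
  conj_mem_D ⟨1, 1, by
      have h := S.q_V 1 1
      rw [show (1 : ZMod 2) + 1 = 0 by decide, pw_zero, mul_one] at h
      calc S.q⁻¹ * F.z * S.q = S.q⁻¹ * (S.q * (pw F.z 1 * pw F.v 1) * S.q⁻¹) * S.q := by
            rw [h, pw_one]
        _ = _ := by group⟩
    ⟨0, 1, by
      calc S.q⁻¹ * F.v * S.q = S.q⁻¹ * (S.q * F.v * S.q⁻¹) * S.q := by rw [S.q_cv]
        _ = _ := by rw [pw_one, pw_zero, one_mul]; simp [mul_assoc]⟩ hd

theorem om_D {d : G} (hd : d ∈ F.D) : S.om * d * S.om⁻¹ ∈ F.D := by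
  rw [show S.om * d * S.om⁻¹ = S.p * (S.q * d * S.q⁻¹) * S.p⁻¹ by rw [om]; group]
  exact S.p_D (S.q_D hd)

theorem lm_p {d : G} (hd : d ∈ F.D) (t : U6) : F.lm (S.p * d * S.p⁻¹) t = F.lm d t := by
  obtain ⟨a, ha, rfl⟩ := F.κ_surj t
  have h := crd_conj_D (S.p_D hd) (crd_A ha)
  have h' := S.crd_p (crd_conj_D hd (S.crd_p (crd_A ha)))
  rw [show S.p * (d * (S.p * a * S.p⁻¹) * d⁻¹) * S.p⁻¹ = S.p * d * S.p⁻¹ * a * (S.p * d * S.p⁻¹)⁻¹ by
    simp only [mul_inv_rev, inv_inv, S.p_inv, mul_assoc]] at h'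
  have e := (crd_uniq h h').1
  rw [F.lm_zero, add_zero, add_zero] at e
  exact e

theorem lm_q {d : G} (hd : d ∈ F.D) (t : U6) : F.lm (S.q * d * S.q⁻¹) t = F.lm d t := by
  obtain ⟨a, ha, rfl⟩ := F.κ_surj t
  have h := crd_conj_D (S.q_D hd) (crd_A ha)
  have h' := S.crd_q (crd_conj_D hd (S.crd_q (crd_A ha)))
  rw [show S.q * (d * (S.q * a * S.q⁻¹) * d⁻¹) * S.q⁻¹ = S.q * d * S.q⁻¹ * a * (S.q * d * S.q⁻¹)⁻¹ by
    simp only [mul_inv_rev, inv_inv, S.q_inv, mul_assoc]] at h'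
  exact (crd_uniq h h').1

theorem lm_om {d : G} (hd : d ∈ F.D) (t : U6) : F.lm (S.om * d * S.om⁻¹) t = F.lm d t := by
  rw [show S.om * d * S.om⁻¹ = S.p * (S.q * d * S.q⁻¹) * S.p⁻¹ by rw [om]; group,
    S.lm_p (S.q_D hd), S.lm_q hd]

theorem om_pow_three : S.om * (S.om * S.om) = 1 := by
  set e := S.om * (S.om * S.om) with he
  have conj3 : ∀ x, e * x * e⁻¹ = S.om * (S.om * (S.om * x * S.om⁻¹) * S.om⁻¹) * S.om⁻¹ := fun x => by
    rw [he]; group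
  have hV : ∀ i j, e * (pw F.z i * pw F.v j) * e⁻¹ = pw F.z i * pw F.v j := by
    intro i j
    rw [conj3, S.om_V, S.om_V, S.om_V]
    rcases z2 i with rfl | rfl <;> rcases z2 j with rfl | rfl <;>
      simp [show (1 : ZMod 2) + 1 = 0 by decide]
  have heD : e ∈ F.D := by
    refine F.mem_D.2 ⟨?_, ?_⟩
    · have h := mul_inv_eq_iff_eq_mul.mp (hV 1 0)
      simpa using h
    · have h := mul_inv_eq_iff_eq_mul.mp (hV 0 1)
      simpa using h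
  have hlm : ∀ t, F.lm e t = t := by
    intro t
    obtain ⟨a, ha, rfl⟩ := F.κ_surj t
    have h := crd_conj_D heD (crd_A ha)
    rw [conj3] at h
    have e' := (crd_uniq h (S.crd_om (S.crd_om (S.crd_om (crd_A ha))))).1
    simpa [add_comm, ZModModule.add_self] using e'
  obtain ⟨a, ha, b, hb, hab⟩ := F.mem_AB_of_fix heD hlm
  have hc : Crd F e (F.κ a) (F.θ b) := ⟨a, ha, b, hb, hab, rfl, rfl⟩
  have hp : S.p * e * S.p⁻¹ = e⁻¹ := by
    rw [he, om]; simp only [mul_inv_rev, S.p_inv, S.q_inv, ← mul_assoc, S.p_sq, one_mul]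
  have hq : S.q * e * S.q⁻¹ = e⁻¹ := by
    rw [he, om]; simp only [mul_inv_rev, S.p_inv, S.q_inv, mul_assoc, S.q_sq, mul_one]
  obtain ⟨e1, -⟩ := crd_uniq (hp ▸ S.crd_p hc) (crd_inv hc)
  obtain ⟨-, e2⟩ := crd_uniq (hq ▸ S.crd_q hc) (crd_inv hc)
  rw [add_eq_left.mp e1, add_eq_left.mp e2] at hc
  obtain ⟨i, j, hij⟩ := crd_zero hc
  have hinv : e⁻¹ = e := by
    rw [hij, mul_inv_rev, pw_inv F.z_sq, pw_inv F.v_sq]
    exact pw_comm _ (F.T.Qz (pw_mem F.hv j)) i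
  rw [hinv, hij, S.p_V] at hp
  rw [hinv, hij, S.q_V] at hq
  have j0 : j = 0 := add_eq_left.mp (F.vz_inj hp).1
  have i0 : i = 0 := add_eq_right.mp (F.vz_inj hq).2
  rw [hij, i0, j0, pw_zero, pw_zero, one_mul]

/-- The centraliser of the element of order three in `D`. -/
def K : Subgroup G := F.D ⊓ Subgroup.centralizer ({S.om} : Set G)

theorem mem_K {k : G} : k ∈ S.K ↔ k ∈ F.D ∧ S.om * k * S.om⁻¹ = k := by
  rw [K, Subgroup.mem_inf, Subgroup.mem_centralizer_singleton_iff, mul_inv_eq_iff_eq_mul]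
  exact and_congr_right fun _ => eq_comm

theorem fix_trivial {x : G} (hx : x ∈ F.R) (h : S.om * x * S.om⁻¹ = x) : x = 1 := by
  obtain ⟨s, t, hc⟩ := exists_crd hx
  obtain ⟨e1, e2⟩ := crd_uniq (h ▸ S.crd_om hc) hc
  subst e1
  have hs : t = 0 := by simpa [ZModModule.add_self] using e2.symm
  subst hs
  obtain ⟨i, j, rfl⟩ := crd_zero hc
  rw [S.om_V] at h
  obtain ⟨rfl, h2⟩ := F.vz_inj h
  obtain rfl : j = 0 := add_eq_left.mp h2
  simp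

theorem K_inj {k k' : G} (hk : k ∈ S.K) (hk' : k' ∈ S.K) (h : ∀ t, F.lm k t = F.lm k' t) : k = k' := by
  obtain ⟨hkD, hkw⟩ := S.mem_K.1 hk
  obtain ⟨hkD', -⟩ := S.mem_K.1 hk'
  obtain ⟨a, ha, b, hb, e⟩ := F.mem_AB_of_fix (mul_mem (inv_mem hkD) hkD') (fun t => by
    rw [F.lm_mul (inv_mem hkD) hkD', ← h, ← F.lm_mul (inv_mem hkD) hkD, inv_mul_cancel, F.lm_one])
  have hfix := (S.mem_K.1 (mul_mem (inv_mem hk) hk')).2
  exact inv_mul_eq_one.mp (S.fix_trivial (F.cfg.mem_R.mpr ⟨a, ha, b, hb, e⟩) hfix)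

theorem exists_K {d : G} (hd : d ∈ F.D) : ∃ k ∈ S.K, ∀ t, F.lm k t = F.lm d t := by
  let f : F.R → F.R := fun x => ⟨S.om * x * S.om⁻¹ * (x : G)⁻¹, by
    obtain ⟨s, t, hc⟩ := exists_crd x.2
    exact crd_R (crd_mul (S.crd_om hc) (crd_inv hc))⟩
  have hf : Function.Injective f := by
    intro x y h
    have h' : S.om * x * S.om⁻¹ * (x : G)⁻¹ = S.om * y * S.om⁻¹ * (y : G)⁻¹ := congrArg Subtype.val h
    refine (Subtype.ext (inv_mul_eq_one.mp (S.fix_trivial (mul_mem (inv_mem x.2) y.2) ?_)))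
    calc S.om * ((x : G)⁻¹ * y) * S.om⁻¹
        = (S.om * x * S.om⁻¹)⁻¹ * (S.om * y * S.om⁻¹ * (y : G)⁻¹) * y := by group
      _ = _ := by rw [← h']; group
  have hd' := S.om_D hd
  have hm : (S.om * d * S.om⁻¹)⁻¹ * d ∈ F.R := by
    obtain ⟨a, ha, b, hb, e⟩ := F.mem_AB_of_fix (mul_mem (inv_mem hd') hd) (fun t => by
      rw [F.lm_mul (inv_mem hd') hd, ← S.lm_om hd, ← F.lm_mul (inv_mem hd') hd', inv_mul_cancel,
        F.lm_one])
    exact F.cfg.mem_R.mpr ⟨a, ha, b, hb, e⟩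
  obtain ⟨x, hx⟩ := (Finite.injective_iff_surjective.1 hf) ⟨_, hm⟩
  have hx' : S.om * x * S.om⁻¹ * (x : G)⁻¹ = (S.om * d * S.om⁻¹)⁻¹ * d := congrArg Subtype.val hx
  have hxD := F.R_le_D x.2
  refine ⟨d * x, S.mem_K.2 ⟨mul_mem hd hxD, ?_⟩, fun t => ?_⟩
  · calc S.om * (d * x) * S.om⁻¹ = (S.om * d * S.om⁻¹) * (S.om * x * S.om⁻¹ * (x : G)⁻¹) * x := by group
      _ = _ := by rw [hx']; group
  · obtain ⟨a, ha, b, hb, e⟩ := F.cfg.mem_R.mp x.2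
    rw [F.lm_mul hd hxD, e, F.lm_mul (F.A_le_D ha) (F.B_le_D hb), F.lm_B hb, F.lm_A ha]

theorem inverts {g k : G} (hg : g * S.om * g⁻¹ = S.om⁻¹) (hD : g * k * g⁻¹ ∈ F.D)
    (hl : ∀ t, F.lm (g * k * g⁻¹) t = F.lm k t) (hk : k ∈ S.K) : g * k * g⁻¹ = k := by
  refine S.K_inj (S.mem_K.2 ⟨hD, ?_⟩) hk hl
  have e : S.om⁻¹ * k * S.om = k := by
    calc S.om⁻¹ * k * S.om = S.om⁻¹ * (S.om * k * S.om⁻¹) * S.om := by rw [(S.mem_K.1 hk).2]
      _ = k := by group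
  have e2 : g * (S.om⁻¹ * k * S.om) * g⁻¹ = g * k * g⁻¹ := by rw [e]
  calc S.om * (g * k * g⁻¹) * S.om⁻¹
      = (g * S.om * g⁻¹)⁻¹ * (g * k * g⁻¹) * (g * S.om * g⁻¹) := by rw [hg]; group
    _ = g * (S.om⁻¹ * k * S.om) * g⁻¹ := by group
    _ = _ := e2

theorem p_K {k : G} (hk : k ∈ S.K) : S.p * k * S.p⁻¹ = k :=
  S.inverts (by rw [om]; simp only [mul_inv_rev, S.p_inv, S.q_inv, ← mul_assoc, S.p_sq, one_mul])
    (S.p_D (S.mem_K.1 hk).1) (S.lm_p (S.mem_K.1 hk).1) hk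

theorem q_K {k : G} (hk : k ∈ S.K) : S.q * k * S.q⁻¹ = k :=
  S.inverts (by rw [om]; simp only [mul_inv_rev, S.p_inv, S.q_inv, mul_assoc, S.q_sq, mul_one])
    (S.q_D (S.mem_K.1 hk).1) (S.lm_q (S.mem_K.1 hk).1) hk

theorem comm_crd {k x : G} {s t : U6} (hk : k ∈ F.D) (hx : Crd F x s t) :
    Crd F ⁅k, x⁆ (F.lm k s + s) (F.lm k t + t) := by
  rw [commutatorElement_def]; exact crd_mul (crd_conj_D hk hx) (crd_inv hx)

/-- The functional of an element of `K` at a fixed vector. -/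
theorem exists_val {k : G} (hk : k ∈ S.K) {e : U6} (he : F.lm k e = e) :
    ∃ g : ZMod 2, (∀ a ∈ A F.Q F.v, F.κ a = e → ⁅k, a⁆ = pw F.z g) ∧
      ∀ b ∈ A F.P F.z, F.θ b = e → ⁅k, b⁆ = pw F.v g := by
  have hkD := (S.mem_K.1 hk).1
  have key : ∀ a ∈ A F.Q F.v, F.κ a = e → ∀ b ∈ A F.P F.z, F.θ b = e →
      ∃ g, ⁅k, a⁆ = pw F.z g ∧ ⁅k, b⁆ = pw F.v g := by
    intro a ha hκ b hb hθ
    have hmem : ∀ {x : G} {s t : U6}, Crd F x s t → F.lm k s = s → F.lm k t = t →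
        ⁅k, x⁆ ∈ F.Q ⊓ F.P := by
      intro x s t hx h1 h2
      have := comm_crd hkD hx
      rw [h1, h2, ZModModule.add_self, ZModModule.add_self] at this
      obtain ⟨i, j, hij⟩ := crd_zero this
      rw [hij]; exact mul_mem (pw_mem F.cfg.z_mem_E i) (pw_mem F.cfg.s_mem_E j)
    have h0 := F.lm_zero k
    obtain ⟨g, t, hA⟩ := F.E_inV (hmem (crd_A ha) (by rw [hκ, he]) h0)
    obtain ⟨h, d, hB⟩ := F.E_inV (hmem (crd_B hb) h0 (by rw [hθ, he]))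
    have congrA : ∀ {x : G} {s u : U6}, Crd F x s u → s = e → u = e → ⁅k, x⁆ = ⁅k, a⁆ * ⁅k, b⁆ := by
      intro x s u hx hs hu
      have hd : Crd F ((a * b)⁻¹ * x) 0 0 := by
        have := crd_mul (crd_inv (crd_mul (crd_A ha) (crd_B hb))) hx
        simpa [hs, hu, hκ, hθ, ZModModule.add_self] using this
      obtain ⟨i, j, hij⟩ := crd_zero hd
      have hV : pw F.z i * pw F.v j ∈ F.Q ⊓ F.P :=
        mul_mem (pw_mem F.cfg.z_mem_E i) (pw_mem F.cfg.s_mem_E j)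
      have h1 : ⁅k, pw F.z i * pw F.v j⁆ = 1 :=
        commutatorElement_eq_one_iff_mul_comm.mpr (F.V_fix hkD hV)
      calc ⁅k, x⁆ = ⁅k, a * b * ((a * b)⁻¹ * x)⁆ := by rw [mul_inv_cancel_left]
        _ = ⁅k, a * b⁆ := by
          rw [hij, F.comm_mul_D (mul_mem (F.A_le_D ha) (F.B_le_D hb)) (by rw [h1]; exact one_mem _),
            h1, mul_one]
        _ = _ := F.comm_mul_D (F.A_le_D ha) (hmem (crd_B hb) h0 (by rw [hθ, he]))
    have hp := congrA (S.crd_p (crd_B hb)) (by rw [hθ, zero_add]) hθ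
    have hq := congrA (S.crd_q (crd_A ha)) hκ (by rw [hκ, zero_add])
    rw [show ⁅k, S.p * b * S.p⁻¹⁆ = S.p * ⁅k, b⁆ * S.p⁻¹ by
      conv_lhs => rw [← S.p_K hk]
      simp only [commutatorElement_def]; group, hA, hB, S.p_V, F.vz_mul] at hp
    rw [show ⁅k, S.q * a * S.q⁻¹⁆ = S.q * ⁅k, a⁆ * S.q⁻¹ by
      conv_lhs => rw [← S.q_K hk]
      simp only [commutatorElement_def]; group, hA, hB, S.q_V, F.vz_mul] at hq
    obtain ⟨p1, p2⟩ := F.vz_inj hp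
    obtain ⟨q1, q2⟩ := F.vz_inj hq
    have ht : t = 0 := add_eq_right.mp p2.symm
    have hh : h = 0 := add_eq_left.mp q1.symm
    refine ⟨g, by rw [hA, ht, pw_zero, mul_one], ?_⟩
    rw [hB, hh, pw_zero, one_mul]
    rw [hh, zero_add, add_zero] at p1
    rw [← p1]
  obtain ⟨a0, ha0, hκ0⟩ := F.κ_surj e
  obtain ⟨b0, hb0, hθ0⟩ := F.θ_surj e
  obtain ⟨g, hg, hg'⟩ := key a0 ha0 hκ0 b0 hb0 hθ0
  refine ⟨g, fun a ha hκ => ?_, fun b hb hθ => ?_⟩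
  · obtain ⟨g', h1, h2⟩ := key a ha hκ b0 hb0 hθ0
    rw [h1, pw_inj F.v_ne (h2.symm.trans hg')]
  · obtain ⟨g', h1, h2⟩ := key a0 ha0 hκ0 b hb hθ
    rw [h2, pw_inj F.z_ne (h1.symm.trans hg)]

end Sym3

end Cfsg.Agent.CoOneA
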