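/-
The totally singular space `W`, the elements of `K` over the transvections stabilising it, and
normalised pairs.

* `Mm` : the transvections fixing `W` pointwise; `exists_conj_seed` : their preimages in `K`
* `pair_rel` : the relations of a normalised element of `B` with the symmetric group
* `exists_lines` : the elements needed
-/
import Cfsg.Agent.Lib.CoOneA.Base

set_option autoImplicit false
set_option maxRecDepth 100000
open scoped commutatorElement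

namespace Cfsg.Agent.CoOneA

open Cfsg.Agent.CoType Cfsg.Agent.Orth Cfsg.Agent.LargeExtraspecial Cfsg.Agent.LargeExtraspecial.Cfg
open QuadraticMap (polar)

/-- Triples. -/
abbrev V3 : Type := Fin 3 → ZMod 2

/-- The unit triples. -/
def un (i : Fin 3) : V3 := fun j => if j = i then 1 else 0

/-- The vectors of `W`. -/
def evn (c : V3) : U6 := ![c 0, 0, c 1, 0, c 2, 0]
/-- The vectors of the complement. -/
def odd (c : V3) : U6 := ![0, c 0, 0, c 1, 0, c 2]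
/-- Membership of `W`. -/
def InW (x : U6) : Prop := x 1 = 0 ∧ x 3 = 0 ∧ x 5 = 0

instance : DecidablePred InW := fun x => inferInstanceAs (Decidable (_ ∧ _ ∧ _))

/-- The cross product. -/
def crs (r e : V3) : V3 := ![r 1 * e 2 + r 2 * e 1, r 2 * e 0 + r 0 * e 2, r 0 * e 1 + r 1 * e 0]

/-- The transvections fixing `W`. -/
def Mm (r : V3) (t : U6) : U6 := t + evn (crs r ![t 1, t 3, t 5])

/-- The conjugate of `L0` by two reflections. -/
def conjL (x y t : U6) : U6 := rU x (rU y (L0 (rU y (rU x t))))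

/-- The line map of the first flag generator. -/
def N1 (t : U6) : U6 := t + bU E3 t • E0 + bU E0 t • E3
/-- The line map of the second flag generator. -/
def N2 (t : U6) : U6 := t + bU E5 t • E2 + bU E2 t • E5

theorem Mm_add : ∀ (r r' : V3) (t : U6), Mm (r + r') t = Mm r (Mm r' t) := by decide +kernel
theorem Mm_zero : ∀ t : U6, Mm 0 t = t := by decide +kernel
theorem Mm_L0 : ∀ t : U6, Mm (un 2) t = L0 t := by decide +kernel
theorem Mm_fix : ∀ (r : V3) (x : U6), InW x → Mm r x = x := by decide +kernel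

theorem inW_evn : ∀ c : V3, InW (evn c) := by decide +kernel
theorem inW_iff : ∀ x : U6, InW x ↔ x = evn ![x 0, x 2, x 4] := by decide +kernel
theorem bU_inW : ∀ x y : U6, InW x → InW y → bU x y = 0 := by decide +kernel
theorem qU_inW : ∀ x : U6, InW x → qU x = 0 := by decide +kernel

/-- The pairs of vectors for the six transvections. -/
def pairOf : List (V3 × Fin 64 × Fin 64) :=
  [(![1, 0, 0], 35, 50), (![0, 1, 0], 44, 56), (![1, 1, 0], 43, 58), (![1, 0, 1], 3, 19),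
    (![0, 1, 1], 12, 28)]

theorem pairOf_ok : ∀ x ∈ pairOf, qU (ofN x.2.1) = 1 ∧ qU (ofN x.2.2) = 1 ∧
    (∀ t, conjL (ofN x.2.1) (ofN x.2.2) t = Mm x.1 t) ∧
    (∀ e : U6, InW e → rU (ofN x.2.2) (rU (ofN x.2.1) e) 5 = 0) ∧
    rU (ofN x.2.2) (rU (ofN x.2.1) (odd x.1)) 5 = 1 := by
  decide +kernel

theorem flag_ok : (qU (ofN 12) = 1 ∧ qU (ofN 48) = 1 ∧ (∀ t, conjL (ofN 12) (ofN 48) t = N1 t) ∧
      rU (ofN 48) (rU (ofN 12) E3) 5 = 0 ∧ rU (ofN 48) (rU (ofN 12) E5) 5 = 0) ∧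
    (qU (ofN 19) = 1 ∧ qU (ofN 50) = 1 ∧ (∀ t, conjL (ofN 19) (ofN 50) t = N2 t) ∧
      rU (ofN 50) (rU (ofN 19) E1) 5 = 0 ∧ rU (ofN 50) (rU (ofN 19) E5) 5 = 0) := by
  decide +kernel

variable {G : Type*} [Group G] {F : Fr G} [Finite G]

/-- The commutators of `k` with the elements over `e` are given by the bit `g`. -/
def Val (F : Fr G) (k : G) (e : U6) (g : ZMod 2) : Prop :=
  (∀ a ∈ A F.Q F.v, F.κ a = e → ⁅k, a⁆ = pw F.z g) ∧
    ∀ b ∈ A F.P F.z, F.θ b = e → ⁅k, b⁆ = pw F.v g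

namespace Sym3

variable (S : Sym3 F)

theorem exists_u {τ : G} (hτ : Seed F (0, 1) τ) :
    ∃ u ∈ S.K, u * u = 1 ∧ (∀ t, F.lm u t = L0 t) ∧ ∀ e, L0 e = e → Val F u e (e 5) := by
  obtain ⟨hτD, hτ2, hτL, -, hv⟩ := hτ
  obtain ⟨u, hu, hul⟩ := S.exists_K hτD
  have hL : ∀ t, F.lm u t = L0 t := fun t => (hul t).trans (hτL t)
  have huD := (S.mem_K.1 hu).1
  have hu2 : u * u = 1 := S.K_inj (mul_mem hu hu) (one_mem _) fun t => by
    rw [F.lm_mul huD huD, hL, hL, F.lm_one]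
    exact (by decide +kernel : ∀ t : U6, L0 (L0 t) = t) t
  obtain ⟨t, s, -, -, hvu, -, -⟩ := F.translate hτD hτ2 hτL huD hu2 hL hv
  have get : ∀ e, L0 e = e → ∃ g, Val F u e g := fun e he =>
    S.exists_val hu ((hL e).trans he)
  have calcA : ∀ e, L0 e = e → ∀ g, Val F u e g →
      CoType.dot ((0 : ZMod 2) + (t 5 + s 5), (0 : ZMod 2) + (t 4 + s 4)) e = g ∧
      CoType.dot ((0 : ZMod 2) + s 5, (0 : ZMod 2) + s 4) e = 0 ∧
      CoType.dot ((0 : ZMod 2) + t 5, (1 : ZMod 2) + t 4) e = 0 := by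
    intro e he g hg
    obtain ⟨a, ha, hκ⟩ := F.κ_surj e
    obtain ⟨b, hb, hθ⟩ := F.θ_surj e
    have h1 := (hg.1 a ha hκ).symm.trans (hvu.valA a ha (by rw [hκ, he]))
    have h2 := (hg.2 b hb hθ).symm.trans (hvu.valB b hb (by rw [hθ, he]))
    rw [hκ] at h1
    rw [hθ] at h2
    obtain ⟨e1, e2⟩ := F.vz_inj
      ((show pw F.z g * pw F.v 0 = pw F.z g by rw [pw_zero, mul_one]).trans h1)
    obtain ⟨e3, -⟩ := F.vz_inj
      ((show pw F.z 0 * pw F.v g = pw F.v g by rw [pw_zero, one_mul]).trans h2)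
    exact ⟨e1.symm, e2.symm, e3.symm⟩
  obtain ⟨g4, hg4⟩ := get E4 L0_E4
  obtain ⟨g5, hg5⟩ := get E5 L0_E5
  obtain ⟨-, b4, c4⟩ := calcA E4 L0_E4 g4 hg4
  obtain ⟨-, b5, c5⟩ := calcA E5 L0_E5 g5 hg5
  simp [CoType.dot, E4, E5] at b4 b5 c4 c5
  refine ⟨u, hu, hu2, hL, fun e he => ?_⟩
  obtain ⟨g, hg⟩ := get e he
  obtain ⟨e1, -, -⟩ := calcA e he g hg
  have ht4 : t 4 = 1 := (CoType.add_eq_zero_z2 c5).symm
  rw [c4, b4, b5, ht4] at e1
  simp [CoType.dot] at e1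
  rwa [e1]

/-- The conjugates of the seed in `K`. -/
theorem exists_conj_seed {τ : G} (hτ : Seed F (0, 1) τ) {x y : U6} (hx : qU x = 1) (hy : qU y = 1) :
    ∃ k ∈ S.K, k * k = 1 ∧ (∀ t, F.lm k t = conjL x y t) ∧
      ∀ e, conjL x y e = e → Val F k e (rU y (rU x e) 5) := by
  obtain ⟨u, hu, hu2, hL, hval⟩ := S.exists_u hτ
  obtain ⟨d0, hd0, hρ⟩ := F.exists_D hx hy
  obtain ⟨d, hd, hdl⟩ := S.exists_K hd0
  have hdD := (S.mem_K.1 hd).1
  have huD := (S.mem_K.1 hu).1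
  have hl : ∀ t, F.lm d t = rU x (rU y t) := fun t => (hdl t).trans (F.lm_D hd0 hx hy hρ t)
  have hli : ∀ t, F.lm d⁻¹ t = rU y (rU x t) := fun t => by
    have h := F.lm_mul (inv_mem hdD) hdD (rU y (rU x t))
    rw [inv_mul_cancel, F.lm_one, hl, rU_rU, rU_rU] at h
    exact h.symm
  have hlk : ∀ t, F.lm (d * u * d⁻¹) t = conjL x y t := fun t => by
    rw [F.lm_mul (mul_mem hdD huD) (inv_mem hdD), F.lm_mul hdD huD, hli, hL, hl]; rfl
  refine ⟨d * u * d⁻¹, mul_mem (mul_mem hd hu) (inv_mem hd), ?_, hlk, fun e he => ?_⟩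
  · calc d * u * d⁻¹ * (d * u * d⁻¹) = d * (u * u) * d⁻¹ := by group
      _ = 1 := by rw [hu2]; group
  have he' : L0 (rU y (rU x e)) = rU y (rU x e) := by
    have h := congrArg (fun r => rU y (rU x r)) he
    simpa [conjL, rU_rU] using h
  obtain ⟨h1, h2⟩ := hval _ he'
  refine ⟨fun a ha hκ => ?_, fun b hb hθ => ?_⟩
  · have ha' := F.A_norm (inv_mem hdD) ha
    have h := h1 _ ha' (by rw [F.κ_lm (inv_mem hdD) ha, hκ, hli])
    rw [show ⁅d * u * d⁻¹, a⁆ = d * ⁅u, d⁻¹ * a * d⁻¹⁻¹⁆ * d⁻¹ by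
      simp only [commutatorElement_def]; group, h]
    exact mul_inv_eq_iff_eq_mul.mpr (pw_comm d (F.mem_D.1 hdD).1 _)
  · have hb' := F.B_norm (inv_mem hdD) hb
    have h := h2 _ hb' (by rw [F.θ_lm (inv_mem hdD) hb, hθ, hli])
    rw [show ⁅d * u * d⁻¹, b⁆ = d * ⁅u, d⁻¹ * b * d⁻¹⁻¹⁆ * d⁻¹ by
      simp only [commutatorElement_def]; group, h]
    exact mul_inv_eq_iff_eq_mul.mpr (pw_comm d (F.mem_D.1 hdD).2 _)

/-- An element of `B` fixed by `q`. -/
def Nrm (b : G) : Prop := b ∈ A F.P F.z ∧ S.q * b * S.q⁻¹ = b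

theorem exists_nrm (t : U6) : ∃ b, S.Nrm b ∧ F.θ b = t := by
  obtain ⟨b, hb, hθ⟩ := F.θ_surj t
  obtain ⟨i, hi⟩ : ∃ i, S.q * b * S.q⁻¹ = pw F.v i * b := by
    rcases F.dP.comm S.q S.q_mem b (mem_A.mp hb).1 with h | h <;> rw [commutatorElement_def] at h
    · exact ⟨0, by rw [pw_zero, one_mul]; exact mul_inv_eq_one.mp h⟩
    · exact ⟨1, by rw [pw_one]; exact mul_inv_eq_iff_eq_mul.mp h⟩
  refine ⟨pw F.z i * b, ⟨mul_mem (pw_mem F.z_mem_B i) hb, ?_⟩, ?_⟩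
  · have hz := S.q_V i 0
    rw [pw_zero, mul_one, add_zero] at hz
    calc S.q * (pw F.z i * b) * S.q⁻¹ = (S.q * pw F.z i * S.q⁻¹) * (S.q * b * S.q⁻¹) := by group
      _ = pw F.z i * (pw F.v i * pw F.v i) * b := by rw [hz, hi]; group
      _ = _ := by rw [← pw_add F.v_sq, ZModModule.add_self, pw_zero, mul_one]
  · rw [F.θ_mul (pw_mem F.z_mem_B i) hb, hθ, F.θ_pw_mul (pw_mem F.cfg.z_mem_E i), zero_add]

theorem nrm_mul {b b' : G} (h : S.Nrm b) (h' : S.Nrm b') : S.Nrm (b * b') :=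
  ⟨mul_mem h.1 h'.1, by
    rw [show S.q * (b * b') * S.q⁻¹ = (S.q * b * S.q⁻¹) * (S.q * b' * S.q⁻¹) by group, h.2, h'.2]⟩

theorem nrm_conj {k b : G} (hk : k ∈ S.K) (h : S.Nrm b) : S.Nrm (k * b * k⁻¹) :=
  ⟨F.B_norm (S.mem_K.1 hk).1 h.1, by
    rw [show S.q * (k * b * k⁻¹) * S.q⁻¹ =
      (S.q * k * S.q⁻¹) * (S.q * b * S.q⁻¹) * (S.q * k * S.q⁻¹)⁻¹ by group, S.q_K hk, h.2]⟩

theorem nrm_v {b : G} (h : S.Nrm b) (i : ZMod 2) : S.Nrm (b * pw F.v i) :=
  S.nrm_mul h ⟨pw_mem F.v_mem_B i, by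
    have := S.q_V 0 i
    simpa using this⟩

/-- The partner in `A(Q, v)` of an element of `B`. -/
def pa (b : G) : G := S.p * b * S.p⁻¹ * b⁻¹

theorem pair_rel {b : G} (h : S.Nrm b) (h0 : qU (F.θ b) = 0) :
    S.pa b ∈ A F.Q F.v ∧ F.κ (S.pa b) = F.θ b ∧ b * b = 1 ∧ S.pa b * S.pa b = 1 ∧
      S.pa b * b = b * S.pa b ∧ S.p * b * S.p⁻¹ = S.pa b * b ∧
      S.p * S.pa b * S.p⁻¹ = S.pa b ∧ S.q * S.pa b * S.q⁻¹ = b * S.pa b := by
  obtain ⟨hb, hq⟩ := h
  obtain ⟨a', ha', e, hκ⟩ := F.conj_B_gen S.p_mem (by rw [S.p_c, cp_p0]) hb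
  have ea : S.pa b = a' := by rw [pa, e, mul_inv_cancel_right]
  rw [ea]
  have hb2 : b * b = 1 := by rw [F.sq_B hb, h0, pw_zero]
  have ha2 : a' * a' = 1 := by rw [F.sq_A ha', hκ, h0, pw_zero]
  have hcm : a' * b = b * a' := by
    have h := F.comm_ba ha' hb
    rw [hκ, bU_self, pw_zero, pw_zero, one_mul] at h
    exact (commutatorElement_eq_one_iff_mul_comm.mp h).symm
  have hpp : S.p * a' * S.p⁻¹ = a' := by
    calc S.p * a' * S.p⁻¹ = S.p * (S.p * b * S.p⁻¹ * b⁻¹) * S.p⁻¹ := by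
          rw [e, mul_inv_cancel_right]
      _ = (S.p * S.p) * b * (S.p * S.p)⁻¹ * (S.p * b * S.p⁻¹)⁻¹ := by group
      _ = b * (a' * b)⁻¹ := by rw [S.p_sq, e]; group
      _ = a'⁻¹ := by group
      _ = a' := inv_eq_of_mul_eq_one_right ha2
  refine ⟨ha', hκ, hb2, ha2, hcm, e, hpp, ?_⟩
  -- the image under the second involution
  have hcrd : Crd F (S.q * a' * S.q⁻¹ * (b * a')⁻¹) 0 0 := by
    have h1 := crd_mul (S.crd_q (crd_A ha')) (crd_inv (crd_mul (crd_B hb) (crd_A ha')))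
    simpa [hκ, ZModModule.add_self] using h1
  obtain ⟨γ, β, hx⟩ := crd_zero hcrd
  have hqa : S.q * a' * S.q⁻¹ = pw F.z γ * pw F.v β * (b * a') := mul_inv_eq_iff_eq_mul.mp hx
  have hf : ∀ i j, b * (pw F.z i * pw F.v j) = pw F.z i * pw F.v j * b := F.D_fix_V (F.B_le_D hb)
  have g0 : γ = 0 := by
    have h2 : pw F.z 0 * pw F.v γ = pw F.z 0 * pw F.v 0 := by
      refine mul_right_cancel (b := a') ?_
      calc pw F.z 0 * pw F.v γ * a'
          = pw F.z (γ + γ) * pw F.v (γ + β + β) * (b * b) * a' := by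
            rw [hb2, ZModModule.add_self, add_assoc γ, ZModModule.add_self, add_zero, mul_one]
        _ = pw F.z γ * pw F.v (γ + β) * (pw F.z γ * pw F.v β * b) * b * a' := by
            rw [← F.vz_mul]; group
        _ = pw F.z γ * pw F.v (γ + β) * (b * (pw F.z γ * pw F.v β * (b * a'))) := by
            rw [← hf]; group
        _ = (S.q * (pw F.z γ * pw F.v β) * S.q⁻¹) * ((S.q * b * S.q⁻¹) * (S.q * a' * S.q⁻¹)) := by
            rw [S.q_V, hq, hqa]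
        _ = S.q * (S.q * a' * S.q⁻¹) * S.q⁻¹ := by
            conv_rhs => rw [hqa]
            group
        _ = (S.q * S.q) * a' * (S.q * S.q)⁻¹ := by group
        _ = pw F.z 0 * pw F.v 0 * a' := by rw [S.q_sq]; simp
    exact (F.vz_inj h2).2
  subst g0
  suffices hβ : β = 0 by rw [hqa, hβ]; simp
  rw [pw_zero, one_mul] at hqa
  have hba : b * (a' * b) = a' := by rw [hcm, ← mul_assoc, hb2, one_mul]
  have hbraid : S.p * S.q * S.p = S.q * S.p * S.q := by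
    have h := S.om_pow_three
    rw [om] at h
    calc S.p * S.q * S.p = (S.p * S.q * (S.p * S.q * (S.p * S.q))) * (S.q⁻¹ * S.p⁻¹ * S.q⁻¹) := by group
      _ = _ := by rw [h, S.p_inv, S.q_inv, one_mul]
  have h2 : S.q * S.p * S.q * b * (S.q * S.p * S.q)⁻¹ = pw F.v β * a' := by
    calc S.q * S.p * S.q * b * (S.q * S.p * S.q)⁻¹ = S.q * (S.p * (S.q * b * S.q⁻¹) * S.p⁻¹) * S.q⁻¹ := by
          group
      _ = S.q * (a' * b) * S.q⁻¹ := by rw [hq, e]
      _ = (S.q * a' * S.q⁻¹) * (S.q * b * S.q⁻¹) := by group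
      _ = pw F.v β * (b * (a' * b)) := by rw [hqa, hq]; group
      _ = _ := by rw [hba]
  have h1 : S.p * S.q * S.p * b * (S.p * S.q * S.p)⁻¹ = pw F.z β * pw F.v β * a' := by
    calc S.p * S.q * S.p * b * (S.p * S.q * S.p)⁻¹ = S.p * (S.q * (S.p * b * S.p⁻¹) * S.q⁻¹) * S.p⁻¹ := by
          group
      _ = S.p * ((S.q * a' * S.q⁻¹) * (S.q * b * S.q⁻¹)) * S.p⁻¹ := by rw [e]; group
      _ = S.p * (pw F.v β * (b * (a' * b))) * S.p⁻¹ := by rw [hqa, hq]; group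
      _ = (S.p * (pw F.z 0 * pw F.v β) * S.p⁻¹) * (S.p * a' * S.p⁻¹) := by rw [hba, pw_zero]; group
      _ = _ := by rw [S.p_V, hpp, zero_add]
  rw [hbraid, h2] at h1
  have h3 : pw F.z 0 * pw F.v β = pw F.z β * pw F.v β := by
    rw [pw_zero, one_mul]; exact mul_right_cancel h1
  exact (F.vz_inj h3).1.symm

end Sym3

/-- The elements over the transvections and over a flag. -/
structure Lines (S : Sym3 F) where
  kf : V3 → G
  kf_K : ∀ r, kf r ∈ S.K
  kf_lm : ∀ r t, F.lm (kf r) t = Mm r t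
  kf_mul : ∀ r r', kf (r + r') = kf r * kf r'
  kf_W : ∀ r e, InW e → Val F (kf r) e 0
  kf_odd : ∀ i j, Val F (kf (un i + un j * (if i = j then 0 else 1)))
    (odd (un i + un j * (if i = j then 0 else 1))) 1
  l1 : G
  l1_K : l1 ∈ S.K
  l1_sq : l1 * l1 = 1
  l1_lm : ∀ t, F.lm l1 t = N1 t
  l1_val : Val F l1 E3 0 ∧ Val F l1 E5 0
  l2 : G
  l2_K : l2 ∈ S.K
  l2_sq : l2 * l2 = 1
  l2_lm : ∀ t, F.lm l2 t = N2 t
  l2_val : Val F l2 E1 0 ∧ Val F l2 E5 0

theorem odd_cases : ∀ i j : Fin 3,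
    (un i + un j * (if i = j then 0 else 1) : V3) ∈
      [![0, 0, 1], ![1, 0, 0], ![0, 1, 0], ![1, 1, 0], ![1, 0, 1], ![0, 1, 1]] := by
  decide +kernel

theorem exists_lines (S : Sym3 F) {τ : G} (hτ : Seed F (0, 1) τ) : Nonempty (Lines S) := by
  have hl : ∀ r, ∃ k ∈ S.K, (∀ t, F.lm k t = Mm r t) ∧ ∀ e, InW e → Val F k e 0 := by
    have one : ∀ r : V3, r ∈ [![0, 0, 1], ![1, 0, 0], ![0, 1, 0]] →
        ∃ k ∈ S.K, (∀ t, F.lm k t = Mm r t) ∧ ∀ e, InW e → Val F k e 0 := by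
      intro r hr
      simp only [List.mem_cons, List.not_mem_nil, or_false] at hr
      rcases hr with rfl | hr
      · obtain ⟨u, hu, -, hL, hv⟩ := S.exists_u hτ
        refine ⟨u, hu, fun t => (hL t).trans ((Mm_L0 t).symm.trans ?_), fun e he => ?_⟩
        · rw [show (![0, 0, 1] : V3) = un 2 by decide]
        · have := hv e ((Mm_L0 e).symm.trans (Mm_fix _ e he))
          rwa [he.2.2] at this
      · obtain ⟨x, hx, rfl⟩ : ∃ x ∈ pairOf, x.1 = r := by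
          rcases hr with rfl | rfl
          · exact ⟨_, List.mem_cons_self, rfl⟩
          · exact ⟨_, List.mem_cons_of_mem _ List.mem_cons_self, rfl⟩
        obtain ⟨h1, h2, h3, h4, -⟩ := pairOf_ok x hx
        obtain ⟨k, hk, -, hlm, hv⟩ := S.exists_conj_seed hτ h1 h2
        refine ⟨k, hk, fun t => (hlm t).trans (h3 t), fun e he => ?_⟩
        have := hv e ((h3 e).trans (Mm_fix _ e he))
        rwa [h4 e he] at this
    have mul : ∀ r r' : V3, (∃ k ∈ S.K, (∀ t, F.lm k t = Mm r t) ∧ ∀ e, InW e → Val F k e 0) →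
        (∃ k ∈ S.K, (∀ t, F.lm k t = Mm r' t) ∧ ∀ e, InW e → Val F k e 0) →
        ∃ k ∈ S.K, (∀ t, F.lm k t = Mm (r + r') t) ∧ ∀ e, InW e → Val F k e 0 := by
      rintro r r' ⟨k, hk, hl, hv⟩ ⟨k', hk', hl', hv'⟩
      refine ⟨k * k', mul_mem hk hk', fun t => ?_, fun e he => ⟨fun a ha hκ => ?_, fun b hb hθ => ?_⟩⟩
      · rw [F.lm_mul (S.mem_K.1 hk).1 (S.mem_K.1 hk').1, hl', hl, ← Mm_add]
      · have e1 := (hv e he).1 a ha hκ
        have e2 := (hv' e he).1 a ha hκ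
        rw [pw_zero, commutatorElement_eq_one_iff_mul_comm] at e1 e2 ⊢
        exact (Commute.mul_left e1 e2).eq
      · have e1 := (hv e he).2 b hb hθ
        have e2 := (hv' e he).2 b hb hθ
        rw [pw_zero, commutatorElement_eq_one_iff_mul_comm] at e1 e2 ⊢
        exact (Commute.mul_left e1 e2).eq
    have h100 := one ![1, 0, 0] (by simp)
    have h010 := one ![0, 1, 0] (by simp)
    have h001 := one ![0, 0, 1] (by simp)
    have h0 : ∃ k ∈ S.K, (∀ t, F.lm k t = Mm 0 t) ∧ ∀ e, InW e → Val F k e 0 :=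
      ⟨1, one_mem _, fun t => by rw [F.lm_one, Mm_zero],
        fun e _ => ⟨fun a _ _ => by simp, fun b _ _ => by simp⟩⟩
    intro r
    have hr : r = 0 ∨ r = ![1, 0, 0] ∨ r = ![0, 1, 0] ∨ r = ![0, 0, 1] ∨
        r = ![1, 0, 0] + ![0, 1, 0] ∨ r = ![1, 0, 0] + ![0, 0, 1] ∨ r = ![0, 1, 0] + ![0, 0, 1] ∨
        r = ![1, 0, 0] + ![0, 1, 0] + ![0, 0, 1] := by
      revert r; decide +kernel
    rcases hr with rfl | rfl | rfl | rfl | rfl | rfl | rfl | rfl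
    exacts [h0, h100, h010, h001, mul _ _ h100 h010, mul _ _ h100 h001, mul _ _ h010 h001,
      mul _ _ (mul _ _ h100 h010) h001]
  choose kf hkK hklm hkW using hl
  have hodd : ∀ r : V3, r ∈ [![0, 0, 1], ![1, 0, 0], ![0, 1, 0], ![1, 1, 0], ![1, 0, 1], ![0, 1, 1]] →
      Val F (kf r) (odd r) 1 := by
    intro r hr
    rw [List.mem_cons] at hr
    rcases hr with rfl | hr
    · obtain ⟨u, hu, -, hL, hv⟩ := S.exists_u hτ
      have e : kf ![0, 0, 1] = u := S.K_inj (hkK _) hu fun t => by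
        rw [hklm, hL, show (![0, 0, 1] : V3) = un 2 by decide, Mm_L0]
      rw [e]
      have := hv (odd ![0, 0, 1]) (by decide +kernel)
      simpa [odd] using this
    · obtain ⟨x, hx, rfl⟩ : ∃ x ∈ pairOf, x.1 = r := by
        simp only [List.mem_cons, List.not_mem_nil, or_false] at hr
        rcases hr with rfl | rfl | rfl | rfl | rfl
        exacts [⟨_, List.mem_cons_self, rfl⟩, ⟨_, List.mem_cons_of_mem _ List.mem_cons_self, rfl⟩,
          ⟨_, List.mem_cons_of_mem _ (List.mem_cons_of_mem _ List.mem_cons_self), rfl⟩,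
          ⟨_, List.mem_cons_of_mem _ (List.mem_cons_of_mem _ (List.mem_cons_of_mem _ List.mem_cons_self)), rfl⟩,
          ⟨_, List.mem_cons_of_mem _ (List.mem_cons_of_mem _ (List.mem_cons_of_mem _
            (List.mem_cons_of_mem _ List.mem_cons_self))), rfl⟩]
      obtain ⟨h1, h2, h3, -, h5⟩ := pairOf_ok x hx
      obtain ⟨k, hk, -, hlm, hv⟩ := S.exists_conj_seed hτ h1 h2
      have e : kf x.1 = k := S.K_inj (hkK _) hk fun t => by rw [hklm, hlm, h3]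
      rw [e]
      have hfix : ∀ r : V3, Mm r (odd r) = odd r := by decide +kernel
      have := hv (odd x.1) ((h3 _).trans (hfix _))
      rwa [h5] at this
  obtain ⟨⟨a1, b1, c1, v13, v15⟩, ⟨a2, b2, c2, v21, v25⟩⟩ := flag_ok
  obtain ⟨l1, hl1, hl1s, hl1l, hl1v⟩ := S.exists_conj_seed hτ a1 b1
  obtain ⟨l2, hl2, hl2s, hl2l, hl2v⟩ := S.exists_conj_seed hτ a2 b2
  refine ⟨{
    kf := kf, kf_K := hkK, kf_lm := hklm, kf_W := hkW
    kf_mul := fun r r' => S.K_inj (hkK _) (mul_mem (hkK _) (hkK _)) fun t => by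
      rw [F.lm_mul (S.mem_K.1 (hkK r)).1 (S.mem_K.1 (hkK r')).1, hklm, hklm, hklm, Mm_add]
    kf_odd := fun i j => hodd _ (odd_cases i j)
    l1 := l1, l1_K := hl1, l1_sq := hl1s, l1_lm := fun t => (hl1l t).trans (c1 t)
    l1_val := ⟨v13 ▸ hl1v E3 ((c1 E3).trans (by decide +kernel)),
      v15 ▸ hl1v E5 ((c1 E5).trans (by decide +kernel))⟩
    l2 := l2, l2_K := hl2, l2_sq := hl2s, l2_lm := fun t => (hl2l t).trans (c2 t)
    l2_val := ⟨v21 ▸ hl2v E1 ((c2 E1).trans (by decide +kernel)),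
      v25 ▸ hl2v E5 ((c2 E5).trans (by decide +kernel))⟩ }⟩

end Cfsg.Agent.CoOneA
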