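/-
Coordinates of the subgroup of order `2^11` and the action of the eight generators on them.

* `Pre` : the chosen elements; `Pre.el` : coordinates; `imgP`, `imgQ`, `imgC`, `imgD` : the tables
* `exists_co_a` : the choices can be made so that the tables are the standard ones
-/
import Cfsg.Agent.Lib.CoOneA.Lines
import Cfsg.Agent.Lib.Golay.Code

set_option autoImplicit false
set_option maxRecDepth 100000
open scoped commutatorElement

namespace Cfsg.Agent.CoOneA

open Cfsg.Agent.CoType Cfsg.Agent.Orth Cfsg.Agent.LargeExtraspecial Cfsg.Agent.LargeExtraspecial.Cfg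
open QuadraticMap (polar)
open Cfsg.Agent.Golay (encAux encAux_xor encAux_zero)

/-- The bit of a number as an element of GF(2). -/
def bz (y i : ℕ) : ZMod 2 := bif y.testBit i then 1 else 0

theorem bz_xor (x y i : ℕ) : bz (x ^^^ y) i = bz x i + bz y i := by
  simp only [bz, Nat.testBit_xor]
  cases x.testBit i <;> cases y.testBit i <;> decide

/-- The product of the first `n` elements selected by the bits of `y`. -/
def elAux {G : Type*} [Group G] (g : ℕ → G) : ℕ → ℕ → G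
  | 0, _ => 1
  | n + 1, y => elAux g n y * pw (g n) (bz y n)

section el

variable {G : Type*} [Group G] {g : ℕ → G}

theorem elAux_comm {x : G} : ∀ (n y : ℕ), (∀ i < n, x * g i = g i * x) → x * elAux g n y = elAux g n y * x
  | 0, y, _ => by simp [elAux]
  | n + 1, y, h => by
    have h1 := elAux_comm n y fun i hi => h i (by omega)
    have h2 := pw_comm x (h n (by omega)) (bz y n)
    rw [elAux, ← mul_assoc, h1, mul_assoc, h2, mul_assoc]

theorem elAux_xor : ∀ (n x y : ℕ), (∀ i < n, g i * g i = 1) → (∀ i < n, ∀ j < n, g i * g j = g j * g i) →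
    elAux g n (x ^^^ y) = elAux g n x * elAux g n y
  | 0, x, y, _, _ => by simp [elAux]
  | n + 1, x, y, h2, hc => by
    have ih := elAux_xor n x y (fun i hi => h2 i (by omega)) fun i hi j hj => hc i (by omega) j (by omega)
    have hg : pw (g n) (bz x n) * elAux g n y = elAux g n y * pw (g n) (bz x n) :=
      (pw_comm _ (elAux_comm n y fun i hi => hc n (by omega) i (by omega)).symm _).symm
    simp only [elAux, ih, bz_xor, pw_add (h2 n (by omega))]
    calc elAux g n x * elAux g n y * (pw (g n) (bz x n) * pw (g n) (bz y n))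
        = elAux g n x * (elAux g n y * pw (g n) (bz x n)) * pw (g n) (bz y n) := by group
      _ = _ := by rw [← hg]; group

theorem elAux_zero : ∀ n, elAux g n 0 = 1
  | 0 => rfl
  | n + 1 => by rw [elAux, elAux_zero n]; simp [bz]

theorem elAux_single : ∀ (n i : ℕ), i < n → elAux g n (2 ^ i) = g i
  | 0, i, h => absurd h (Nat.not_lt_zero _)
  | n + 1, i, h => by
    rcases eq_or_ne i n with rfl | hne
    · have h0 : ∀ m, m ≤ i → elAux g m (2 ^ i) = 1 := by
        intro m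
        induction m with
        | zero => intro _; rfl
        | succ m ih =>
          intro hm
          rw [elAux, ih (by omega)]
          simp [bz, Nat.testBit_two_pow, show i ≠ m by omega]
      rw [elAux, h0 i le_rfl]
      simp [bz]
    · rw [elAux, elAux_single n i (by omega)]
      simp [bz, Nat.testBit_two_pow, hne]

theorem elAux_mem {H : Subgroup G} : ∀ (n y : ℕ), (∀ i < n, g i ∈ H) → elAux g n y ∈ H
  | 0, _, _ => one_mem H
  | n + 1, y, h => mul_mem (elAux_mem n y fun i hi => h i (by omega)) (pw_mem (h n (by omega)) _)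

end el

variable {G : Type*} [Group G] {F : Fr G} [Finite G]

/-- The chosen elements. -/
structure Pre (F : Fr G) where
  S : Sym3 F
  L : Lines S
  bX : Fin 3 → G
  bX_nrm : ∀ i, S.Nrm (bX i)
  bX_θ : ∀ i, F.θ (bX i) = evn (un i)
  d : Fin 3 → G
  d_nrm : ∀ i, S.Nrm (d i)
  d_θ : ∀ i, F.θ (d i) = odd (un i)
  d_one : d 1 = L.l1 * d 0 * L.l1⁻¹ * d 0
  d_two : d 2 = L.l2 * d 1 * L.l2⁻¹ * d 1

namespace Pre

variable (P : Pre F)

/-- The lifts of `W` in `A(Q, v)`. -/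
def aX (i : Fin 3) : G := P.S.pa (P.bX i)
/-- The lifts of the complement in `A(Q, v)`. -/
def c (i : Fin 3) : G := P.S.pa (P.d i)

/-- The basis. -/
def gen (i : ℕ) : G :=
  [F.z, F.v, P.aX 0, P.aX 1, P.aX 2, P.bX 0, P.bX 1, P.bX 2, P.L.kf (un 0), P.L.kf (un 1),
    P.L.kf (un 2)].getD i 1

/-- The coordinates. -/
def el (y : ℕ) : G := elAux P.gen 11 y

theorem qU_evn (i : Fin 3) : qU (F.θ (P.bX i)) = 0 := by rw [P.bX_θ]; exact qU_inW _ (inW_evn _)
theorem qU_odd (i : Fin 3) : qU (F.θ (P.d i)) = 0 := by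
  rw [P.d_θ]; revert i; decide +kernel

theorem crd_aX (i : Fin 3) : Crd F (P.aX i) (evn (un i)) 0 := by
  obtain ⟨h1, h2, -⟩ := P.S.pair_rel (P.bX_nrm i) (P.qU_evn i)
  have := crd_A h1
  rwa [h2, P.bX_θ] at this

theorem crd_bX (i : Fin 3) : Crd F (P.bX i) 0 (evn (un i)) := by
  have := crd_B (P.bX_nrm i).1
  rwa [P.bX_θ] at this

theorem crd_c (i : Fin 3) : Crd F (P.c i) (odd (un i)) 0 := by
  obtain ⟨h1, h2, -⟩ := P.S.pair_rel (P.d_nrm i) (P.qU_odd i)
  have := crd_A h1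
  rwa [h2, P.d_θ] at this

theorem crd_d (i : Fin 3) : Crd F (P.d i) 0 (odd (un i)) := by
  have := crd_B (P.d_nrm i).1
  rwa [P.d_θ] at this

theorem crd_z : Crd F F.z 0 0 := by simpa [pw] using crd_vz (F := F) 1 0
theorem crd_v : Crd F F.v 0 0 := by simpa [pw] using crd_vz (F := F) 0 1

end Pre

/-- Conjugation inside `A B`. -/
theorem crd_conj {x y : G} {s t s' t' : U6} (hx : Crd F x s t) (hy : Crd F y s' t') :
    x * y * x⁻¹ = y * (pw F.z (bU s (s' + t') + bU s' t) * pw F.v (bU s t' + bU s' t + bU t t')) := by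
  obtain ⟨a, ha, b, hb, rfl, rfl, rfl⟩ := hx
  obtain ⟨a', ha', b', hb', rfl, rfl, rfl⟩ := hy
  exact F.conj_AB ha hb ha' hb'

theorem crd_commW {x y : G} {s t s' t' : U6} (hx : Crd F x s t) (hy : Crd F y s' t')
    (h1 : InW s) (h2 : InW t) (h3 : InW s') (h4 : InW t') : x * y = y * x := by
  have h := crd_conj hx hy
  simp only [bU_add_right, bU_inW _ _ h1 h3, bU_inW _ _ h1 h4, bU_inW _ _ h3 h2, bU_inW _ _ h2 h4,
    add_zero, pw_zero, one_mul, mul_one] at h
  exact mul_inv_eq_iff_eq_mul.mp h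

/-- A transvection of `K` commutes with the elements over `W`. -/
theorem kf_comm {S : Sym3 F} (L : Lines S) (r : V3) {x : G} {s t : U6} (hx : Crd F x s t)
    (h1 : InW s) (h2 : InW t) : L.kf r * x = x * L.kf r := by
  obtain ⟨a, ha, b, hb, rfl, rfl, rfl⟩ := hx
  have e1 := (L.kf_W r _ h1).1 a ha rfl
  have e2 := (L.kf_W r _ h2).2 b hb rfl
  rw [pw_zero, commutatorElement_eq_one_iff_mul_comm] at e1 e2
  exact (Commute.mul_right e1 e2).eq

/-! ### Tables -/

/-- The value of a linear table. -/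
def lin (T : List ℕ) (y : ℕ) : ℕ := encAux T y

theorem lin_xor (T : List ℕ) (x y : ℕ) : lin T (x ^^^ y) = lin T x ^^^ lin T y := encAux_xor T x y

/-- The table of `p`. -/
def imgP : List ℕ := [1, 3, 4, 8, 16, 36, 72, 144, 256, 512, 1024]
/-- The table of `q`. -/
def imgQ : List ℕ := [3, 2, 36, 72, 144, 32, 64, 128, 256, 512, 1024]
/-- The mask of the selected lift of `W`. -/
def amask (c : V3) : ℕ :=
  (if c 0 = 1 then 4 else 0) ^^^ (if c 1 = 1 then 8 else 0) ^^^ (if c 2 = 1 then 16 else 0)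
/-- The bit of a transvection with an element of the complement. -/
def epsB (i m : Fin 3) : ℕ := if i ≤ m then 1 else 0
/-- The commutator of a transvection with an element of the complement. -/
def eV (i m : Fin 3) : ℕ := epsB i m ^^^ amask (crs (un i) (un m))
/-- The table of `c m` on the elements over `W`. -/
def lowC (m : Fin 3) : List ℕ :=
  [1, 2, if m = 0 then 5 else 4, if m = 1 then 9 else 8, if m = 2 then 17 else 16,
    if m = 0 then 35 else 32, if m = 1 then 67 else 64, if m = 2 then 131 else 128]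
/-- The table of `d m` on the elements over `W`. -/
def lowD (m : Fin 3) : List ℕ :=
  [1, 2, if m = 0 then 7 else 4, if m = 1 then 11 else 8, if m = 2 then 19 else 16,
    if m = 0 then 34 else 32, if m = 1 then 66 else 64, if m = 2 then 130 else 128]
/-- The table of `c m`. -/
def imgC (m : Fin 3) : List ℕ :=
  lowC m ++ [eV 0 m ^^^ 256, eV 1 m ^^^ 512, eV 2 m ^^^ 1024]
/-- The table of `d m`. -/
def imgD (m : Fin 3) : List ℕ :=
  lowD m ++ [lin imgQ (eV 0 m) ^^^ eV 0 m ^^^ 256, lin imgQ (eV 1 m) ^^^ eV 1 m ^^^ 512,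
    lin imgQ (eV 2 m) ^^^ eV 2 m ^^^ 1024]

namespace Pre

variable (P : Pre F)

theorem gen_crd {i : ℕ} (hi : i < 8) : ∃ s t, Crd F (P.gen i) s t ∧ InW s ∧ InW t := by
  have h0 : InW (0 : U6) := by decide
  interval_cases i <;> simp only [gen, List.getD_cons_zero, List.getD_cons_succ]
  exacts [⟨_, _, crd_z, h0, h0⟩, ⟨_, _, crd_v, h0, h0⟩, ⟨_, _, P.crd_aX 0, inW_evn _, h0⟩,
    ⟨_, _, P.crd_aX 1, inW_evn _, h0⟩, ⟨_, _, P.crd_aX 2, inW_evn _, h0⟩,
    ⟨_, _, P.crd_bX 0, h0, inW_evn _⟩, ⟨_, _, P.crd_bX 1, h0, inW_evn _⟩,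
    ⟨_, _, P.crd_bX 2, h0, inW_evn _⟩]

theorem gen_kf {i : ℕ} (h1 : 8 ≤ i) (h2 : i < 11) : ∃ r, P.gen i = P.L.kf r := by
  interval_cases i <;> simp only [gen, List.getD_cons_zero, List.getD_cons_succ] <;> exact ⟨_, rfl⟩

theorem kf_zero : P.L.kf 0 = 1 := by
  have h := P.L.kf_mul 0 0
  rw [add_zero] at h
  exact left_eq_mul.mp h

theorem kf_sq (r : V3) : P.L.kf r * P.L.kf r = 1 := by
  rw [← P.L.kf_mul, ZModModule.add_self, P.kf_zero]

theorem gen_sq : ∀ i < 11, P.gen i * P.gen i = 1 := by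
  intro i hi
  rcases lt_or_ge i 8 with h | h
  · interval_cases i <;> simp only [gen, List.getD_cons_zero, List.getD_cons_succ]
    exacts [F.z_sq, F.v_sq, (P.S.pair_rel (P.bX_nrm 0) (P.qU_evn 0)).2.2.2.1,
      (P.S.pair_rel (P.bX_nrm 1) (P.qU_evn 1)).2.2.2.1, (P.S.pair_rel (P.bX_nrm 2) (P.qU_evn 2)).2.2.2.1,
      (P.S.pair_rel (P.bX_nrm 0) (P.qU_evn 0)).2.2.1, (P.S.pair_rel (P.bX_nrm 1) (P.qU_evn 1)).2.2.1,
      (P.S.pair_rel (P.bX_nrm 2) (P.qU_evn 2)).2.2.1]
  · obtain ⟨r, hr⟩ := P.gen_kf h hi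
    rw [hr, P.kf_sq]

theorem gen_comm : ∀ i < 11, ∀ j < 11, P.gen i * P.gen j = P.gen j * P.gen i := by
  intro i hi j hj
  rcases lt_or_ge i 8 with h | h <;> rcases lt_or_ge j 8 with h' | h'
  · obtain ⟨s, t, hx, h1, h2⟩ := P.gen_crd h
    obtain ⟨s', t', hy, h3, h4⟩ := P.gen_crd h'
    exact crd_commW hx hy h1 h2 h3 h4
  · obtain ⟨s, t, hx, h1, h2⟩ := P.gen_crd h
    obtain ⟨r, hr⟩ := P.gen_kf h' hj
    rw [hr]; exact (kf_comm P.L r hx h1 h2).symm
  · obtain ⟨s, t, hx, h1, h2⟩ := P.gen_crd h'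
    obtain ⟨r, hr⟩ := P.gen_kf h hi
    rw [hr]; exact kf_comm P.L r hx h1 h2
  · obtain ⟨r, hr⟩ := P.gen_kf h hi
    obtain ⟨r', hr'⟩ := P.gen_kf h' hj
    rw [hr, hr', ← P.L.kf_mul, ← P.L.kf_mul, add_comm]

theorem el_xor (x y : ℕ) : P.el (x ^^^ y) = P.el x * P.el y := elAux_xor 11 x y P.gen_sq P.gen_comm

theorem el_zero : P.el 0 = 1 := elAux_zero 11

theorem el_single {i : ℕ} (h : i < 11) : P.el (2 ^ i) = P.gen i := elAux_single 11 i h

theorem el_sq (x : ℕ) : P.el x * P.el x = 1 := by rw [← P.el_xor, Nat.xor_self, P.el_zero]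

theorem el_comm (x y : ℕ) : P.el x * P.el y = P.el y * P.el x := by
  rw [← P.el_xor, ← P.el_xor, Nat.xor_comm]

theorem el_inv (x : ℕ) : (P.el x)⁻¹ = P.el x := inv_eq_of_mul_eq_one_right (P.el_sq x)

/-- Conjugation is given by a table once it is on the basis elements occurring. -/
theorem conj_low {g : G} {T : List ℕ} (n : ℕ) (hn : n ≤ 11)
    (h : ∀ i < n, g * P.gen i * g⁻¹ = P.el (lin T (2 ^ i))) :
    ∀ y < 2 ^ n, g * P.el y * g⁻¹ = P.el (lin T y) := by
  induction n with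
  | zero =>
    intro y hy
    obtain rfl : y = 0 := by omega
    rw [P.el_zero, lin, encAux_zero, P.el_zero, mul_one, mul_inv_cancel]
  | succ n ih =>
    intro y hy
    have ih' := ih (by omega) fun i hi => h i (by omega)
    by_cases hb : y < 2 ^ n
    · exact ih' y hb
    · have hy' : y ^^^ 2 ^ n < 2 ^ n := by
        have hz : y / 2 ^ n = 1 := by
          apply Nat.div_eq_of_lt_le
          · omega
          · rw [pow_succ] at hy; omega
        refine Nat.lt_pow_two_of_testBit _ fun i hi => ?_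
        rw [Nat.testBit_xor, Nat.testBit_two_pow]
        rcases eq_or_lt_of_le hi with rfl | hlt
        · simp [Nat.testBit_eq_decide_div_mod_eq, hz]
        · rw [Nat.testBit_lt_two_pow (lt_of_lt_of_le hy (Nat.pow_le_pow_right (by norm_num) hlt))]
          simp [show n ≠ i by omega]
      conv_lhs => rw [← Nat.xor_xor_cancel_right y (2 ^ n), P.el_xor]
      conv_rhs => rw [← Nat.xor_xor_cancel_right y (2 ^ n), lin_xor, P.el_xor]
      rw [← ih' _ hy', ← h n (by omega), P.el_single (by omega)]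
      group

theorem el_three : P.el 3 = F.z * F.v := by
  rw [show (3 : ℕ) = 2 ^ 0 ^^^ 2 ^ 1 by decide, P.el_xor, P.el_single (by norm_num),
    P.el_single (by norm_num)]
  rfl

theorem el_two_add {i j : ℕ} (hi : i < 11) (hj : j < 11) {n : ℕ} (h : n = 2 ^ i ^^^ 2 ^ j) :
    P.el n = P.gen i * P.gen j := by
  rw [h, P.el_xor, P.el_single hi, P.el_single hj]

theorem p_tab : ∀ i < 11, P.S.p * P.gen i * P.S.p⁻¹ = P.el (lin imgP (2 ^ i)) := by
  intro i hi
  rcases lt_or_ge i 8 with h | h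
  · interval_cases i
    · rw [show lin imgP (2 ^ 0) = 2 ^ 0 by decide, P.el_single (by norm_num)]
      exact P.S.p_cz
    · rw [show lin imgP (2 ^ 1) = 3 by decide, P.el_three, F.zv]
      exact P.S.p_cv
    · rw [show lin imgP (2 ^ 2) = 2 ^ 2 by decide, P.el_single (by norm_num)]
      exact (P.S.pair_rel (P.bX_nrm 0) (P.qU_evn 0)).2.2.2.2.2.2.1
    · rw [show lin imgP (2 ^ 3) = 2 ^ 3 by decide, P.el_single (by norm_num)]
      exact (P.S.pair_rel (P.bX_nrm 1) (P.qU_evn 1)).2.2.2.2.2.2.1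
    · rw [show lin imgP (2 ^ 4) = 2 ^ 4 by decide, P.el_single (by norm_num)]
      exact (P.S.pair_rel (P.bX_nrm 2) (P.qU_evn 2)).2.2.2.2.2.2.1
    · rw [P.el_two_add (i := 2) (j := 5) (by norm_num) (by norm_num) (by decide)]
      exact (P.S.pair_rel (P.bX_nrm 0) (P.qU_evn 0)).2.2.2.2.2.1
    · rw [P.el_two_add (i := 3) (j := 6) (by norm_num) (by norm_num) (by decide)]
      exact (P.S.pair_rel (P.bX_nrm 1) (P.qU_evn 1)).2.2.2.2.2.1
    · rw [P.el_two_add (i := 4) (j := 7) (by norm_num) (by norm_num) (by decide)]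
      exact (P.S.pair_rel (P.bX_nrm 2) (P.qU_evn 2)).2.2.2.2.2.1
  · obtain ⟨r, hr⟩ := P.gen_kf h hi
    rw [show lin imgP (2 ^ i) = 2 ^ i by interval_cases i <;> decide, P.el_single hi, hr]
    exact P.S.p_K (P.L.kf_K r)

theorem q_tab : ∀ i < 11, P.S.q * P.gen i * P.S.q⁻¹ = P.el (lin imgQ (2 ^ i)) := by
  intro i hi
  rcases lt_or_ge i 8 with h | h
  · interval_cases i
    · rw [show lin imgQ (2 ^ 0) = 3 by decide, P.el_three]
      exact P.S.q_z
    · rw [show lin imgQ (2 ^ 1) = 2 ^ 1 by decide, P.el_single (by norm_num)]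
      exact P.S.q_cv
    · rw [P.el_two_add (i := 5) (j := 2) (by norm_num) (by norm_num) (by decide)]
      exact (P.S.pair_rel (P.bX_nrm 0) (P.qU_evn 0)).2.2.2.2.2.2.2
    · rw [P.el_two_add (i := 6) (j := 3) (by norm_num) (by norm_num) (by decide)]
      exact (P.S.pair_rel (P.bX_nrm 1) (P.qU_evn 1)).2.2.2.2.2.2.2
    · rw [P.el_two_add (i := 7) (j := 4) (by norm_num) (by norm_num) (by decide)]
      exact (P.S.pair_rel (P.bX_nrm 2) (P.qU_evn 2)).2.2.2.2.2.2.2
    · rw [show lin imgQ (2 ^ 5) = 2 ^ 5 by decide, P.el_single (by norm_num)]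
      exact (P.bX_nrm 0).2
    · rw [show lin imgQ (2 ^ 6) = 2 ^ 6 by decide, P.el_single (by norm_num)]
      exact (P.bX_nrm 1).2
    · rw [show lin imgQ (2 ^ 7) = 2 ^ 7 by decide, P.el_single (by norm_num)]
      exact (P.bX_nrm 2).2
  · obtain ⟨r, hr⟩ := P.gen_kf h hi
    rw [show lin imgQ (2 ^ i) = 2 ^ i by interval_cases i <;> decide, P.el_single hi, hr]
    exact P.S.q_K (P.L.kf_K r)

/-- The coordinates of the basis over `W`. -/
def crdS (i : ℕ) : U6 := [0, 0, evn (un 0), evn (un 1), evn (un 2), 0, 0, 0].getD i 0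
/-- The coordinates of the basis over `W`. -/
def crdT (i : ℕ) : U6 := [0, 0, 0, 0, 0, evn (un 0), evn (un 1), evn (un 2)].getD i 0

theorem gen_crd' {i : ℕ} (hi : i < 8) : Crd F (P.gen i) (crdS i) (crdT i) := by
  interval_cases i <;> simp only [gen, crdS, crdT, List.getD_cons_zero, List.getD_cons_succ]
  exacts [crd_z, crd_v, P.crd_aX 0, P.crd_aX 1, P.crd_aX 2, P.crd_bX 0, P.crd_bX 1, P.crd_bX 2]

theorem low_tab {g : G} {s t : U6} (hg : Crd F g s t) (T : List ℕ) (i : ℕ) (hi : i < 8)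
    (hT : (lin T (2 ^ i) = 2 ^ i ^^^
      (if bU s (crdS i + crdT i) + bU (crdS i) t = 1 then 1 else 0) ^^^
      (if bU s (crdT i) + bU (crdS i) t + bU t (crdT i) = 1 then 2 else 0))) :
    g * P.gen i * g⁻¹ = P.el (lin T (2 ^ i)) := by
  have hb : ∀ (c : ZMod 2) (k : ℕ), k < 11 → P.el (if c = 1 then 2 ^ k else 0) = pw (P.gen k) c := by
    intro c k hk
    rcases z2 c with rfl | rfl
    · rw [if_neg zero_ne_one, P.el_zero, pw_zero]
    · rw [if_pos rfl, pw_one, P.el_single hk]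
  rw [crd_conj hg (P.gen_crd' hi), hT, P.el_xor, P.el_xor, P.el_single (by omega)]
  have h0 : ∀ c : ZMod 2, P.el (if c = 1 then 1 else 0) = pw F.z c := fun c => hb c 0 (by norm_num)
  have h1 : ∀ c : ZMod 2, P.el (if c = 1 then 2 else 0) = pw F.v c := fun c => hb c 1 (by norm_num)
  rw [h0, h1, mul_assoc]

theorem lowC_ok : ∀ m : Fin 3, ∀ i < 8, lin (lowC m) (2 ^ i) = 2 ^ i ^^^
      (if bU (odd (un m)) (crdS i + crdT i) + bU (crdS i) 0 = 1 then 1 else 0) ^^^
      (if bU (odd (un m)) (crdT i) + bU (crdS i) 0 + bU 0 (crdT i) = 1 then 2 else 0) := by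
  decide +kernel

theorem lowD_ok : ∀ m : Fin 3, ∀ i < 8, lin (lowD m) (2 ^ i) = 2 ^ i ^^^
      (if bU 0 (crdS i + crdT i) + bU (crdS i) (odd (un m)) = 1 then 1 else 0) ^^^
      (if bU 0 (crdT i) + bU (crdS i) (odd (un m)) + bU (odd (un m)) (crdT i) = 1 then 2 else 0) := by
  decide +kernel

theorem c_low (m : Fin 3) {y : ℕ} (hy : y < 256) : P.c m * P.el y * (P.c m)⁻¹ = P.el (lin (lowC m) y) :=
  P.conj_low 8 (by norm_num) (fun i hi => P.low_tab (P.crd_c m) _ i hi (lowC_ok m i hi)) y hy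

theorem d_low (m : Fin 3) {y : ℕ} (hy : y < 256) : P.d m * P.el y * (P.d m)⁻¹ = P.el (lin (lowD m) y) :=
  P.conj_low 8 (by norm_num) (fun i hi => P.low_tab (P.crd_d m) _ i hi (lowD_ok m i hi)) y hy

theorem q_conj (y : ℕ) (hy : y < 2048) : P.S.q * P.el y * P.S.q⁻¹ = P.el (lin imgQ y) :=
  P.conj_low 11 le_rfl P.q_tab y (by simpa using hy)

theorem p_conj (y : ℕ) (hy : y < 2048) : P.S.p * P.el y * P.S.p⁻¹ = P.el (lin imgP y) :=
  P.conj_low 11 le_rfl P.p_tab y (by simpa using hy)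

theorem el_amask (c : V3) :
    P.el (amask c) = pw (P.aX 0) (c 0) * pw (P.aX 1) (c 1) * pw (P.aX 2) (c 2) := by
  have h : ∀ (b : ZMod 2) (k : ℕ), k < 11 → P.el (if b = 1 then 2 ^ k else 0) = pw (P.gen k) b := by
    intro b k hk
    rcases z2 b with rfl | rfl
    · rw [if_neg zero_ne_one, P.el_zero, pw_zero]
    · rw [if_pos rfl, pw_one, P.el_single hk]
  rw [amask, P.el_xor, P.el_xor]
  exact congrArg₂ _ (congrArg₂ _ (h _ 2 (by norm_num)) (h _ 3 (by norm_num))) (h _ 4 (by norm_num))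

theorem crd_pw {x : G} {s t : U6} (h : Crd F x s t) (c : ZMod 2) : Crd F (pw x c) (c • s) (c • t) := by
  rcases z2 c with rfl | rfl
  · simpa using crd_one (F := F)
  · simpa using h

theorem crd_amask (c : V3) : Crd F (P.el (amask c)) (evn c) 0 := by
  rw [P.el_amask]
  have h := crd_mul (crd_mul (crd_pw (P.crd_aX 0) (c 0)) (crd_pw (P.crd_aX 1) (c 1)))
    (crd_pw (P.crd_aX 2) (c 2))
  have e : ∀ c : V3, c 0 • evn (un 0) + c 1 • evn (un 1) + c 2 • evn (un 2) = evn c := by decide +kernel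
  rw [e] at h
  simpa using h

theorem c_fix_p (m : Fin 3) : P.S.p * P.c m * P.S.p⁻¹ = P.c m :=
  (P.S.pair_rel (P.d_nrm m) (P.qU_odd m)).2.2.2.2.2.2.1

/-- The commutator of a transvection with an element of the complement, up to one bit. -/
theorem comm_k_c (i m : Fin 3) : ∃ e : ZMod 2,
    ⁅P.L.kf (un i), P.c m⁆ = P.el ((if e = 1 then 1 else 0) ^^^ amask (crs (un i) (un m))) := by
  have hk := P.L.kf_K (un i)
  set x := P.el (amask (crs (un i) (un m))) with hx
  have hcr : Crd F (⁅P.L.kf (un i), P.c m⁆ * x⁻¹) 0 0 := by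
    have h := crd_mul (Sym3.comm_crd (P.S.mem_K.1 hk).1 (P.crd_c m)) (crd_inv (P.crd_amask (crs (un i) (un m))))
    have e : ∀ i m : Fin 3, Mm (un i) (odd (un m)) + odd (un m) = evn (crs (un i) (un m)) := by
      decide +kernel
    rw [P.L.kf_lm, e, ZModModule.add_self, F.lm_zero, add_zero, add_zero] at h
    exact h
  obtain ⟨a, b, hab⟩ := crd_zero hcr
  have hfixx : P.S.p * x * P.S.p⁻¹ = x := by
    have e : ∀ i m : Fin 3, lin imgP (amask (crs (un i) (un m))) = amask (crs (un i) (un m)) ∧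
        amask (crs (un i) (un m)) < 2048 := by decide +kernel
    rw [hx, P.p_conj _ (e i m).2, (e i m).1]
  have hfix : P.S.p * (⁅P.L.kf (un i), P.c m⁆ * x⁻¹) * P.S.p⁻¹ = ⁅P.L.kf (un i), P.c m⁆ * x⁻¹ := by
    calc P.S.p * (⁅P.L.kf (un i), P.c m⁆ * x⁻¹) * P.S.p⁻¹
        = ⁅P.S.p * P.L.kf (un i) * P.S.p⁻¹, P.S.p * P.c m * P.S.p⁻¹⁆ * (P.S.p * x * P.S.p⁻¹)⁻¹ := by
          simp only [commutatorElement_def]; group
      _ = _ := by rw [P.S.p_K hk, P.c_fix_p, hfixx]
  rw [hab, P.S.p_V] at hfix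
  have hb : b = 0 := add_eq_left.mp (F.vz_inj hfix).1
  refine ⟨a, ?_⟩
  rw [hb, pw_zero, mul_one, mul_inv_eq_iff_eq_mul] at hab
  rw [P.el_xor, hab, hx]
  congr 1
  rcases z2 a with rfl | rfl
  · rw [if_neg zero_ne_one, P.el_zero, pw_zero]
  · rw [if_pos rfl, pw_one]; exact (P.el_single (show 0 < 11 by norm_num)).symm

/-- The tables are the standard ones. -/
def Std : Prop := ∀ i m : Fin 3, ⁅P.L.kf (un i), P.c m⁆ = P.el (eV i m)

theorem q_c (m : Fin 3) : P.S.q * P.c m * P.S.q⁻¹ = P.d m * P.c m :=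
  (P.S.pair_rel (P.d_nrm m) (P.qU_odd m)).2.2.2.2.2.2.2

variable {P}

theorem comm_k_d (h : P.Std) (i m : Fin 3) :
    ⁅P.L.kf (un i), P.d m⁆ = P.el (lin imgQ (eV i m) ^^^ eV i m) := by
  have hb : ∀ i m : Fin 3, eV i m < 256 ∧ lin (lowD m) (eV i m) = eV i m := by decide +kernel
  have h1 : ⁅P.L.kf (un i), P.d m * P.c m⁆ = P.el (lin imgQ (eV i m)) := by
    rw [← P.q_c, ← P.q_conj _ (by have := (hb i m).1; omega), ← h]
    conv_lhs => rw [← P.S.q_K (P.L.kf_K (un i))]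
    simp only [commutatorElement_def]; group
  have h2 : P.d m * ⁅P.L.kf (un i), P.c m⁆ * (P.d m)⁻¹ = P.el (eV i m) := by
    rw [h, P.d_low m (hb i m).1, (hb i m).2]
  have e : ⁅P.L.kf (un i), P.d m * P.c m⁆ =
      ⁅P.L.kf (un i), P.d m⁆ * (P.d m * ⁅P.L.kf (un i), P.c m⁆ * (P.d m)⁻¹) := by
    simp only [commutatorElement_def]; group
  rw [h1, h2] at e
  rw [P.el_xor, e, mul_assoc, P.el_sq, mul_one]

theorem conj_kf {g : G} {k : G} {w : ℕ} {i : ℕ} (hi : i < 11) (hk : P.gen i = k)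
    (h : ⁅k, g⁆ = P.el w) : g * P.gen i * g⁻¹ = P.el (w ^^^ 2 ^ i) := by
  rw [P.el_xor, P.el_single hi, hk]
  have e : g * k * g⁻¹ = ⁅k, g⁆⁻¹ * k := by simp only [commutatorElement_def]; group
  rw [e, h, P.el_inv]

theorem c_conj (h : P.Std) (m : Fin 3) :
    ∀ y < 2048, P.c m * P.el y * (P.c m)⁻¹ = P.el (lin (imgC m) y) := by
  refine P.conj_low 11 le_rfl (fun i hi => ?_)
  rcases lt_or_ge i 8 with hl | hl
  · have e : ∀ m : Fin 3, ∀ i < 8, lin (imgC m) (2 ^ i) = lin (lowC m) (2 ^ i) := by decide +kernel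
    rw [e m i hl]
    exact P.low_tab (P.crd_c m) _ i hl (lowC_ok m i hl)
  · have e : ∀ m : Fin 3, ∀ j : Fin 3, lin (imgC m) (2 ^ (8 + j.val)) = eV j m ^^^ 2 ^ (8 + j.val) := by
      decide +kernel
    obtain ⟨j, rfl⟩ : ∃ j : Fin 3, i = 8 + j.val := ⟨⟨i - 8, by omega⟩, by simp; omega⟩
    rw [e m j]
    refine conj_kf hi ?_ (h j m)
    fin_cases j <;> rfl

theorem d_conj (h : P.Std) (m : Fin 3) :
    ∀ y < 2048, P.d m * P.el y * (P.d m)⁻¹ = P.el (lin (imgD m) y) := by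
  refine P.conj_low 11 le_rfl (fun i hi => ?_)
  rcases lt_or_ge i 8 with hl | hl
  · have e : ∀ m : Fin 3, ∀ i < 8, lin (imgD m) (2 ^ i) = lin (lowD m) (2 ^ i) := by decide +kernel
    rw [e m i hl]
    exact P.low_tab (P.crd_d m) _ i hl (lowD_ok m i hl)
  · have e : ∀ m : Fin 3, ∀ j : Fin 3, lin (imgD m) (2 ^ (8 + j.val)) =
        (lin imgQ (eV j m) ^^^ eV j m) ^^^ 2 ^ (8 + j.val) := by
      decide +kernel
    obtain ⟨j, rfl⟩ : ∃ j : Fin 3, i = 8 + j.val := ⟨⟨i - 8, by omega⟩, by simp; omega⟩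
    rw [e m j]
    refine conj_kf hi ?_ (comm_k_d h j m)
    fin_cases j <;> rfl

end Pre

end Cfsg.Agent.CoOneA
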