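/-
The choices can be made so that the tables are the standard ones.

* `exists_std`
-/
import Cfsg.Agent.Lib.CoOneA.Coord

set_option autoImplicit false
set_option maxRecDepth 100000
open scoped commutatorElement

namespace Cfsg.Agent.CoOneA

open Cfsg.Agent.CoType Cfsg.Agent.Orth Cfsg.Agent.LargeExtraspecial Cfsg.Agent.LargeExtraspecial.Cfg
open QuadraticMap (polar)

variable {G : Type*} [Group G] {F : Fr G} [Finite G]

theorem exists_pre (S : Sym3 F) (L : Lines S) : Nonempty (Pre F) := by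
  choose bX hbX hθX using fun i : Fin 3 => S.exists_nrm (evn (un i))
  obtain ⟨d0, hd0, hθ0⟩ := S.exists_nrm (odd (un 0))
  set d1 := L.l1 * d0 * L.l1⁻¹ * d0 with hd1
  have n1 : S.Nrm d1 := S.nrm_mul (S.nrm_conj L.l1_K hd0) hd0
  have t1 : F.θ d1 = odd (un 1) := by
    rw [hd1, F.θ_mul (S.nrm_conj L.l1_K hd0).1 hd0.1, F.θ_lm (S.mem_K.1 L.l1_K).1 hd0.1, L.l1_lm, hθ0]
    decide +kernel
  set d2 := L.l2 * d1 * L.l2⁻¹ * d1 with hd2
  have n2 : S.Nrm d2 := S.nrm_mul (S.nrm_conj L.l2_K n1) n1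
  have t2 : F.θ d2 = odd (un 2) := by
    rw [hd2, F.θ_mul (S.nrm_conj L.l2_K n1).1 n1.1, F.θ_lm (S.mem_K.1 L.l2_K).1 n1.1, L.l2_lm, t1]
    decide +kernel
  exact ⟨{ S := S, L := L, bX := bX, bX_nrm := hbX, bX_θ := hθX, d := ![d0, d1, d2]
           d_nrm := fun i => by fin_cases i; exacts [hd0, n1, n2]
           d_θ := fun i => by fin_cases i; exacts [hθ0, t1, t2]
           d_one := rfl, d_two := rfl }⟩

/-- The coordinates of a commutator with one undetermined bit. -/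
def vE (e : Fin 3 → Fin 3 → ZMod 2) (i m : Fin 3) : ℕ :=
  (if e i m = 1 then 1 else 0) ^^^ amask (crs (un i) (un m))

/-- The commutator with a product of two. -/
def tot (e : Fin 3 → Fin 3 → ZMod 2) (i j : Fin 3) : ℕ :=
  (vE e j i ^^^ lin (lowC i) (vE e j j)) ^^^ (vE e i i ^^^ lin (lowC i) (vE e i j))

theorem vE_lt : ∀ (e : Fin 3 → Fin 3 → ZMod 2) (i m : Fin 3), vE e i m < 256 := by decide +kernel

theorem tot_ok : ∀ e : Fin 3 → Fin 3 → ZMod 2, (∀ i, e i i = 1) → ∀ i j : Fin 3, i < j →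
    tot e i j < 2 ∧ (tot e i j = 1 → e j i = e i j + 1) := by decide +kernel

theorem gauge_ok : ∀ e : Fin 3 → Fin 3 → ZMod 2, (∀ i, e i i = 1) →
    (∀ i j : Fin 3, i < j → e j i = e i j + 1) → ∀ i m : Fin 3,
    eV i m = (if e i m + (e 2 1 * crs (un i) (un m) 0 + e 2 0 * crs (un i) (un m) 1 +
      e 1 0 * crs (un i) (un m) 2) = 1 then 1 else 0) ^^^ amask (crs (un i) (un m)) := by
  decide +kernel

namespace Pre

variable (P : Pre F)

theorem z_eq : F.z = P.el 1 := (P.el_single (show 0 < 11 by norm_num)).symm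

theorem bits {y : ℕ} (h : y < 2) (hz : P.el y = F.z) : y = 1 := by
  rcases (show y = 0 ∨ y = 1 by omega) with rfl | rfl
  · rw [P.el_zero] at hz; exact absurd hz.symm F.z_ne
  · rfl

theorem kf_el (i : Fin 3) : P.L.kf (un i) = P.el (2 ^ (8 + i.val)) := by
  rw [P.el_single (by omega)]
  fin_cases i <;> rfl

end Pre

/-- The standard choices exist. -/
theorem exists_std (S : Sym3 F) (L : Lines S) : ∃ P : Pre F, P.Std := by
  obtain ⟨P⟩ := exists_pre S L
  choose e he using P.comm_k_c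
  have he' : ∀ i m, ⁅P.L.kf (un i), P.c m⁆ = P.el (vE e i m) := he
  have hcA : ∀ i, P.c i ∈ A F.Q F.v ∧ F.κ (P.c i) = odd (un i) := fun i => by
    obtain ⟨h1, h2, -⟩ := P.S.pair_rel (P.d_nrm i) (P.qU_odd i)
    exact ⟨h1, h2.trans (P.d_θ i)⟩
  have hdiag : ∀ i, e i i = 1 := by
    intro i
    have h := P.L.kf_odd i i
    simp only [if_true, mul_zero, add_zero] at h
    have h1 := h.1 _ (hcA i).1 (hcA i).2
    rw [pw_one, he'] at h1
    have h2 : ∀ (e : Fin 3 → Fin 3 → ZMod 2) (i : Fin 3), vE e i i < 2 ∧ (vE e i i = 1 → e i i = 1) := by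
      decide +kernel
    exact (h2 e i).2 (P.bits (h2 e i).1 h1)
  have hpair : ∀ i j : Fin 3, i < j → e j i = e i j + 1 := by
    intro i j hij
    refine (tot_ok e hdiag i j hij).2 (P.bits (tot_ok e hdiag i j hij).1 ?_)
    have h := P.L.kf_odd i j
    simp only [if_neg hij.ne, mul_one] at h
    have hodd : ∀ i j : Fin 3, odd (un i) + odd (un j) = odd (un i + un j) := by decide +kernel
    have h1 := h.1 (P.c i * P.c j) (mul_mem (hcA i).1 (hcA j).1)
      (by rw [F.κ_mul (mem_A.mp (hcA i).1).1 (mem_A.mp (hcA j).1).1, (hcA i).2, (hcA j).2, hodd])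
    rw [pw_one, P.L.kf_mul] at h1
    rw [← h1]
    have hkc : ∀ k, ⁅P.L.kf (un k), P.c i * P.c j⁆ = P.el (vE e k i ^^^ lin (lowC i) (vE e k j)) := by
      intro k
      rw [P.el_xor, ← he', ← P.c_low i (vE_lt e k j), ← he']
      simp only [commutatorElement_def]; group
    have hex : ⁅P.L.kf (un i) * P.L.kf (un j), P.c i * P.c j⁆ =
        P.L.kf (un i) * ⁅P.L.kf (un j), P.c i * P.c j⁆ * (P.L.kf (un i))⁻¹ *
          ⁅P.L.kf (un i), P.c i * P.c j⁆ := by
      simp only [commutatorElement_def]; group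
    rw [hex, hkc, hkc, P.kf_el, P.el_comm (2 ^ (8 + i.val)), mul_inv_cancel_right, ← P.el_xor]
    rfl
  -- the gauge
  let s : Fin 3 → ZMod 2 := ![e 2 1, e 2 0, e 1 0]
  let P' : Pre F :=
    { P with
      bX := fun i => P.bX i * pw F.v (s i)
      bX_nrm := fun i => P.S.nrm_v (P.bX_nrm i) _
      bX_θ := fun i => by
        rw [F.θ_mul (P.bX_nrm i).1 (pw_mem F.v_mem_B _), P.bX_θ,
          F.θ_pw_mul (pw_mem F.cfg.s_mem_E _), add_zero] }
  refine ⟨P', fun i m => ?_⟩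
  have hc : P'.c m = P.c m := rfl
  have hk : P'.L.kf (un i) = P.L.kf (un i) := rfl
  have ha : ∀ k, P'.aX k = P.aX k * pw F.z (s k) := by
    intro k
    show P.S.p * (P.bX k * pw F.v (s k)) * P.S.p⁻¹ * (P.bX k * pw F.v (s k))⁻¹ = _
    have hpv := P.S.p_V 0 (s k)
    rw [pw_zero, one_mul, zero_add] at hpv
    rw [show P.S.p * (P.bX k * pw F.v (s k)) * P.S.p⁻¹ =
      (P.S.p * P.bX k * P.S.p⁻¹) * (P.S.p * pw F.v (s k) * P.S.p⁻¹) by group, hpv]
    have hb := F.D_fix_V (inv_mem (F.B_le_D (P.bX_nrm k).1)) (s k) 0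
    rw [pw_zero, mul_one] at hb
    show _ = P.S.p * P.bX k * P.S.p⁻¹ * (P.bX k)⁻¹ * pw F.z (s k)
    rw [mul_assoc (P.S.p * P.bX k * P.S.p⁻¹) (P.bX k)⁻¹, hb]
    group
  have hz : ∀ c : ZMod 2, P.el (if c = 1 then 1 else 0) = pw F.z c := by
    intro c
    rcases z2 c with rfl | rfl
    · rw [if_neg zero_ne_one, P.el_zero, pw_zero]
    · rw [if_pos rfl, pw_one, P.z_eq]
  have hz' : ∀ c : ZMod 2, P'.el (if c = 1 then 1 else 0) = pw F.z c := by
    intro c
    rcases z2 c with rfl | rfl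
    · rw [if_neg zero_ne_one, P'.el_zero, pw_zero]
    · rw [if_pos rfl, pw_one, P'.z_eq]
  have hcomm : ∀ k (a b : ZMod 2),
      pw (P.aX k * pw F.z a) b = pw (P.aX k) b * pw F.z (a * b) := by
    intro k a b
    rcases z2 b with rfl | rfl <;> simp
  have hzc : ∀ (x : G) {s t : U6}, Crd F x s t → ∀ a, pw F.z a * x = x * pw F.z a := fun x _ _ h a =>
    (pw_comm x (F.mem_D.1 (crd_D h)).1 a).symm
  have key : ∀ c : V3, P'.el (amask c) = P.el (amask c) * pw F.z (s 0 * c 0 + s 1 * c 1 + s 2 * c 2) := by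
    intro c
    have k1 := hzc _ (Pre.crd_pw (P.crd_aX 1) (c 1)) (s 0 * c 0)
    have k2 := hzc _ (Pre.crd_pw (P.crd_aX 2) (c 2)) (s 0 * c 0 + s 1 * c 1)
    rw [P'.el_amask, P.el_amask, ha, ha, ha, hcomm, hcomm, hcomm, pw_add F.z_sq _ (s 2 * c 2)]
    calc pw (P.aX 0) (c 0) * pw F.z (s 0 * c 0) * (pw (P.aX 1) (c 1) * pw F.z (s 1 * c 1)) *
          (pw (P.aX 2) (c 2) * pw F.z (s 2 * c 2))
        = pw (P.aX 0) (c 0) * (pw F.z (s 0 * c 0) * pw (P.aX 1) (c 1)) * pw F.z (s 1 * c 1) *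
          pw (P.aX 2) (c 2) * pw F.z (s 2 * c 2) := by group
      _ = pw (P.aX 0) (c 0) * pw (P.aX 1) (c 1) * (pw F.z (s 0 * c 0) * pw F.z (s 1 * c 1) *
          pw (P.aX 2) (c 2)) * pw F.z (s 2 * c 2) := by rw [k1]; group
      _ = _ := by rw [← pw_add F.z_sq, k2]; group
  rw [hc, hk, he', vE, P.el_xor, gauge_ok e hdiag hpair i m, P'.el_xor, hz', key, hz,
    pw_add F.z_sq (e i m)]
  have hz1 := hzc _ (P.crd_amask (crs (un i) (un m)))
  calc pw F.z (e i m) * P.el (amask (crs (un i) (un m)))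
      = pw F.z (e i m) * (pw F.z (e 2 1 * crs (un i) (un m) 0 + e 2 0 * crs (un i) (un m) 1 +
          e 1 0 * crs (un i) (un m) 2) * pw F.z (e 2 1 * crs (un i) (un m) 0 +
          e 2 0 * crs (un i) (un m) 1 + e 1 0 * crs (un i) (un m) 2)) *
          P.el (amask (crs (un i) (un m))) := by
        rw [← pw_add F.z_sq, ZModModule.add_self, pw_zero, mul_one]
    _ = _ := by
        rw [mul_assoc, mul_assoc (pw F.z (e 2 1 * crs (un i) (un m) 0 + e 2 0 * crs (un i) (un m) 1 +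
          e 1 0 * crs (un i) (un m) 2)), hz1, ← mul_assoc (pw F.z (e i m))]
        rfl

end Cfsg.Agent.CoOneA
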