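/-
Injectivity of the coordinates and the classes of the elements of the subgroup of order `2^11`.

* `el_inj`, `Asub` : the subgroup in coordinates
* `classes` : an element is conjugate to `z` exactly when its word has weight 8 or 16
-/
import Cfsg.Agent.Lib.CoOneA.Gauge
import Cfsg.Agent.Lib.Golay.Perm

set_option autoImplicit false
set_option maxRecDepth 100000
open scoped commutatorElement

namespace Cfsg.Agent.CoOneA

open Cfsg.Agent.CoType Cfsg.Agent.Orth Cfsg.Agent.LargeExtraspecial Cfsg.Agent.LargeExtraspecial.Cfg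
open QuadraticMap (polar)
open Cfsg.Agent.Golay (encAux encAux_xor encAux_zero encAux_lt allBits forall_lt_two_pow popcount)

/-- The words of the basis. -/
def psiB : List ℕ :=
  [0x38affe, 0x18a096, 0x288174, 0x382238, 0x18046e, 0x5fae9e, 0x5cedd7, 0x7abb97, 0x17a70b,
    0x51c9cd, 0x35545e]

/-- The word of an element. -/
def psi (y : ℕ) : ℕ := lin psiB y

/-- The weight is 8 or 16. -/
def wz (y : ℕ) : Bool := popcount (psi y) == 8 || popcount (psi y) == 16

/-- The tables of the eight generators. -/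
def tab (j : ℕ) : List ℕ :=
  [imgP, imgQ, imgC 0, imgC 1, imgC 2, imgD 0, imgD 1, imgD 2].getD (j % 8) []

theorem tab_bound : ∀ j < 8, ∀ g ∈ tab j, g < 2 ^ 11 := by decide +kernel

theorem tab_lt {j : ℕ} (hj : j < 8) (y : ℕ) : lin (tab j) y < 2048 :=
  encAux_lt (tab j) 11 (tab_bound j hj) y

theorem wz_inv : ∀ j < 8, allBits (fun y => wz (lin (tab j) y) == wz y) 11 0 = true := by
  decide +kernel

theorem wz_tab {j : ℕ} (hj : j < 8) {y : ℕ} (hy : y < 2048) : wz (lin (tab j) y) = wz y := by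
  have := forall_lt_two_pow (wz_inv j hj) (i := y) (by simpa using hy)
  simpa using this

/-- The image under an element of the small group. -/
def qTab (k y : ℕ) : ℕ :=
  let y1 := if k.testBit 3 then lin (imgC 2) y else y
  let y2 := if k.testBit 2 then lin (imgC 1) y1 else y1
  let y3 := if k.testBit 1 then lin (imgC 0) y2 else y2
  if k.testBit 0 then lin imgP y3 else y3

/-- At most four values of the commutators modulo `z`, all in the low range. -/
def thinOK (y : ℕ) : Bool :=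
  Nat.ble ((List.range 16).filter fun j => (List.range 16).any fun k => (y ^^^ qTab k y) / 2 == j).length 4 &&
    ((List.range 16).all fun k => Nat.blt (y ^^^ qTab k y) 32)

/-- No commutator equal to `z`. -/
def zfree (y : ℕ) : Bool := (List.range 16).all fun k => y ^^^ qTab k y != 1

/-- The representatives of the orbits. -/
def reps : List ℕ :=
  [1, 4, 8, 12, 16, 20, 24, 28, 40, 48, 56, 80, 84, 112, 116, 256, 260, 262, 512, 520, 522, 768, 772, 774, 1024, 1040, 1042, 1280, 1284, 1286, 1536, 1544, 1546, 1792, 1796, 1798]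

/-- The representatives can be decided directly. -/
def repOK (r : ℕ) : Bool :=
  Nat.blt r 2048 && ((r != 0 && Nat.blt r 32 && wz r) ||
    (!(Nat.blt r 32) && thinOK r && zfree r == wz r))

theorem reps_ok : reps.all repOK = true := by decide +kernel

/-- The steps from the representatives. -/
def steps : ℕ :=
  0x3cc0fec3ad0fde3aa0f1e3c6efdb7ab7fe97ac7f35ba70f2a3fd8e87fc0efc37964e6af9daea17c5af3bfafefe33f43e983cb8ff23c46fd77a9ffe57ae7f3dba0ff07bf1de5d39bbe72bd4ef917a51ee5fe8df227bf7f79bfe9e8ffc2efcd7944e62f9f2e423b40f663ef0ed3fd46f937a49ee7fd96fa17c91efffdeefbf7ff1e89fc36fcb795ce64f9eae463b2ff4fbe35e15389be3eb929ec9fd36f8f785ce24f8f2e4c7838fc43c10e803914e11f88fe3bffc0f2c3a68f363fa8eb23f60eae3ffff183c9ee91f93cf1dbf75eabffbde713adff33b9b4e5ef82ff95fd5fed5be9ff63fb86ea57c4afb9fdf7ef9bcffebbbf9cfd4fa78fc9fca0f0ffa2eff43c56fd37a8ffe179e4ebdfce6e673953e85fc06fc1796ce68f9d2f89fd2fecfbb5ff55be5de967b8ff61be95f207beff7fbeedff87a37f09bf3de5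33983e7eb900ecdfd26f8b784ce20f8e2e48787ef73f8d5e2dfbddf823eb7e2fbd1bf9ffb1ff43b819e1dfb0ce37fbb6f5bfe1ce05fb6ef9dbd65f6dfbcffb57ec1faffbbdf773ecfee9fdaef6e7b77f5fb80ced87dc7ef5bea4f9afe07f45fb06f5dbe65ede7baffab78c4f687bc7f75b8ace18fed9ec5fd06f85786ce28f8cad71b51ecf5b535d4975e0d7c35d6d3a34f8cfa33f8d43b425d0d73c6cbd32e3d5973bad6c74c8cc3b40dcb2b7a0dea377fdddb6a8d5f73a2de7f796c69f1aeda975a9d67f586d2934bbcce3328d51f55ed36346dd1d738fce5b2bcca8f31ed07723cc8af2dad997369c2cf489d13728ac823747dd3b698c5df17ed9b7371c63f186da570bbd247357cd3b455c9d326bca4b218d97707bc26b249c55f15ed957073c24b251c163505d7634d0cf23415cb536bfd9df68fc29f5a7d27352dd4f75f8d7a35ced3c3310d5df4e0d1773f0cf833afca73516d0f742dc8533decbb32fbdee364fdec306fddbf766d5b73b2c23f78fde1b1b7c6fb6b5d6e758fd65b4b4d2af320ccc3557d53b4c0d1f737fd19725cce7f386cab32b3cc1b405c893233cb0b04fdd5f75ec59f16ed9f7361c67f196da170abd207347cd7b445c99327bca0b200c51f14ed917063c20b241d8bb71fd877627dc370d8c3ff6e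6df0f0f7c75f1c6db676efdf536d7dfbb7f7db33617dcfb036dcb7727c43f60dc06703fdcd711cc35f1f7c79b7f9c7ff1eec3337e1df3f7dedbd36fbc05f717dc1b136d8f7121c4bf635c033139c77f1cec3b30e3db07107c45b605c09302bc30aebdb83abbdb91aef8bab6ee8b95acf0af82bf0b382e1eb15abada7f2c46a7aeec9b9dabd3b2c2c1eac369a3bf62fd0be1ef8eba1ee9db372cc2bdbedd0bd9aacfb77aac5bb46e6eaf2eb58b8deca0b8bab48b1fab87ae769d4b19a9cbb03ab1da5729b3a52ac91b5da8dbada6c3ea60e908bcded80bcfaa87b63aa8db226a77b5faa7da34eb71acdec26acb6974a66e96aa462d2ea24e87aa4a6a37b49aa3da26e872a4c6838b85aea0b2a2ba0b01a9bcb71ed97bb7ec84b59e8cfb97aee0bad6ef0b93ace8afe2be8ac42e67b3e2c2eaf1e994b81ac4eaed69e4b17a914a7cefc0b4fefc8be5e887be7ae97ba36cccb34af7fa1bef76ab7edceab56ec1b9fabdbad02e27b2e2e3ead42c6eae5eb8da712b7fb1da93ca76ec16ac16944a6ae952bc9e82fbcbaa97b67aa9db266a67b5baa6da30eb61ac9ec36acf6964a62e97aa402a27b4daa2da22e862a486d5ea3dedfdb6beff5bee2f0fb43a8b3bfbeabfb6dada1b7defacb55ef1ea3feaacb41ef4ebd7a855a2feaffabb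6fe1bedefa5b7b2f57a83ed1ea066af7b79a8a4bfe685fbd1aa1cab8ef07a05ef16b53aa55a906ab7aa968e4b6e6a4fb51a80ca3aea59a81ed16a856844a2ae84a9c967709d1a67895e271e98d6556918e7359d8275699a25689c3a625951a4738fa27a597ea7f19f1a6fb94a279e99226b5975a4e3943a60d90ae44a8ed63e08f5a3be8ba27bd978a1e88f7a1e68b967e99f7a6e394e278699626ad973a4fb947a61d90ee45a8e3a2a596a61c683ce6c9963a68d92ae4ca90221b88e1a2d886da2ad96c61ce8b560fb9b465969a564b3934a418867a29d82ee0da92261968a560b3834a491826273d9da275e99825609c1a62d953a47c8fde3a79ed65ec8f1e1ff8bfe7e49f5a6ec9cb67789d3a5309e3a65099c26a595c25c693d2716945a61598f6434957a45491ae39f8fe21af8ade3ae9eb65bc97ca1d78b3e3ce839e1f68bd67f99f3a6dc9bce5209e5a640967a69d9af64bc977a4dc93ae5069816414908e442863e28f8e5a0af869a2bd96860cf877a2c583ae6c1961a68592724a3930a400823e1868a160a3830a4818c3a2278cd633f8c96168851e35689ae16781de17e8d8636f8dd235f8d1a26789f23078c7a11e887622f80fe23584e61378cb612c853e05f855a25981fe1768192379895e34e8932273845e217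8c5a10e883601980de23d80b2121815e15e813206b8906017841a20580320238109e65787dd7579d5ee07a5def07a1dde877e1ae86be1e0f7595a8767d1a976791ed17a9dddc69a1a0f743596c7f01fc87d7df577979e456b0dada6f21fbf7eddbc77319ccd7b25ebf7711a78789dd9878fdd887539d556abd9dc6add9c4687dd1d65f199b6629a496e9d8d476a5a2f65319086d61f277cbdb577139c456945baf72d9cbd6371db168ddd3674b595466cd9aa6461b3f61718ba64a5b3770d9c3d61518b264c583879e1e0775a1a70685d9746f79b4f7b19a5b6edd8c679b5ef87a3dee87a7ddf07781af06b81eb77441dce68fd95c785dd7d6a7d9ec6a3d9fc644dfd87f41b2f7d3df476139e4e7955ad36b29faf7e9d8ae6f5dcd67375ed97abddd46981e377601e2f7641d5e7515abf6731aa776f99d464eda077415964660d9927cddf3f60b9b477179c556905bbf7299cad6331da1689dd2674f5944668d9ba6401b277099c2d61118a26485b767fbdbe56e3d8fd7d81ff76fb9f737c7db6f71d9b796c7d87c6e1d8f67c3dc646c5d8767db9f7d7e7dbf77395ff97e3d89573d1f876ffdcfe7f85b0f703986c6065f976279cec706df177c1d81671f9c6d6d85b9f72558ec7205b9772398e4602dc996c1dc067055864620d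88a5cf57a85e5d6b04e8170f58f53874ab172d5ee17875a813b05c7d62d4e5d2bc57c177d4f897e95f5d6f44cc174f5a2167d4f1d2ec4c7d60d489128a55b55f8571d56753817654fe91f0573d1ff53b57f15f3d6ec4c817575a616654f7d2f44c3d61d48d129a557d46d4dc51d743f16c94d7d64d49912ca4821160555d4d845bd4654da51df53550f45b45347595527c4b49218453d45d41d10da4925147515507c434925141617255ec178f5aa13b85c5d6254e7d2b457a157f5db53f3575d1e753d97fb5f1d6e45cd57a05e7d6b84ca175f5a4166d4ea13d74bf170758d5307585523c4e3d2a44a4d5e0553d17755dd47e5dd53634fa91c7577d4ce47bd0ee53f57e15f7d6fc5b6d3385d1d68059d534f59752744f3d2e44b6d317581522c484d282457d547513917f41994754de51cf43394c543916c14d5d64549b125b4b09200455d04e511506c4309241549953f54b551f50b51b046fd5b656ad197469d0be56e5587529158f52b959752d1517509912e54d550f44dd43d448510f5075034467d1af42d95a1461d09e42b1499567d49652f148b441d507505903e50d5139447d40d4091019463d096429108b5205117405940540b100b4208f4e3f40f8f3720bc83c7cd4e2e3c9c43d78fc03e7cdd82f60f0f3578b9f2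750ee83db8beb3fc4faf37b0b503cfcd9035b8baf2790b1f3478944260ce7e3b80ebf39dccf83dd8bf32be0eb72bdccf63fa4fb737d0b403c9cd8035d8bb727f0b0f3438954264ce2f31f8b712afc8f436c4b3f34f8964268c9082980e273280a6f31d8b692adccae23f0da92c9cd2625f09bb2460a2f30b887422cc929289cc2621f08bb24c48383d58fc83e5cdd02f40f073558b972770ef039bcf7e2feceaf2bbccee3f88fbf37f0f463f60f873700bc02d20f2f3620d7e2efc9f43c5cd462e1c9cc2c1cd06257099b3be0e3f399ca7731b8f662f8cb623a9caaf32d8ae733988e53fe4fa73790da22d60f373660d662e9c9ec2cbcd2e25d09b32c5cd16253098b2448e3728fcc3e29fcc662194b792a9ccbe22948ec36e4b3734d896c26ac93a2400a3730d882d21b08ab2484e562b5cecd3a5ccd53b40e4f3978adb3a3cacf3338ec13a7ccdc383cc5e2a7c8d4381cc563918a4d2a5cac72374ed93a1cc8d3310e1f295cc4e2904a8f32588c43204a0f3038854224ce17281cc06311885d2964a8722748cc3264a1f3078844220c819285cc16205484c222c80a15f056b15c867c19cc66a17505cb17685601ad06bb1aa86600f303d30f685c10eb03bb0ec86a10f0047711f046a1db477c1dc84fd13d04ea118078f1e507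9a1d803ff0fb03f213843950e3039a1e043e0155454b156874e1d4c75a17f85eb17c85401eb47bb1ec87400bf42f30ba85e10ad82bb0aa87a10b80457117044b193865c194c4de13504cb110068f1a5069b19002df0b302d313042960a3029b1a042c018d863b18a872d1cec7321bf46f31ba86201f387d31f6872007f81eb07c86e107541cb07687c1078043710f042a14b453c14c84bd12d04aa108058f165059a14801bf06b01b21284195063019a16041a008d823b08a832d0cec33209f427309a82200d383530d6832005f816b05c8261055414b056834105807081c5471a03d47f91fb47f21c000fd03a87e11820616186c0d61b646ce1b4c60003780cb1b04508145451a02d45b916b45b214000bd02a85a110204171070097126448f1250400027c08c12043080c5431a01d43790db43720c0007d01a83610820216086c056096424e094c200017804b0904108045411a00d413904b4132040003d00a81210040019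

/-- The set reached from the representatives. -/
def reach : ℕ → Option ℕ
  | 0 => some (reps.foldl (fun s r => s ||| 1 <<< r) 0)
  | n + 1 =>
    match reach n with
    | none => none
    | some s =>
      let e := (steps >>> (14 * n)) &&& 16383
      let y := e / 8
      if Nat.blt y 2048 && s.testBit (lin (tab e) y) then some (s ||| 1 <<< y) else none

theorem reach_all : reach 2011 = some (2 ^ 2048 - 2) := by decide +kernel

variable {G : Type*} [Group G] {F : Fr G} [Finite G]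

namespace Pre

variable (P : Pre F)

/-- The element with the given three bits. -/
def bits3 (y k : ℕ) : V3 := ![bz y k, bz y (k + 1), bz y (k + 2)]

theorem kf_pw (a : V3) (b : ZMod 2) : pw (P.L.kf a) b = P.L.kf (b • a) := by
  rcases z2 b with rfl | rfl
  · rw [pw_zero, zero_smul, P.kf_zero]
  · rw [pw_one, one_smul]

theorem el_split (y : ℕ) :
    ∃ x, Crd F x (evn (bits3 y 2)) (evn (bits3 y 5)) ∧ P.el y = x * P.L.kf (bits3 y 8) ∧
      (bits3 y 2 = 0 → bits3 y 5 = 0 → x = pw F.z (bz y 0) * pw F.v (bz y 1)) := by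
  refine ⟨pw F.z (bz y 0) * pw F.v (bz y 1) * pw (P.aX 0) (bz y 2) * pw (P.aX 1) (bz y 3) *
    pw (P.aX 2) (bz y 4) * pw (P.bX 0) (bz y 5) * pw (P.bX 1) (bz y 6) * pw (P.bX 2) (bz y 7),
    ?_, ?_, fun h2 h5 => ?_⟩
  · have h := crd_mul (crd_mul (crd_mul (crd_mul (crd_mul (crd_mul (crd_vz (F := F) (bz y 0) (bz y 1))
      (Pre.crd_pw (P.crd_aX 0) (bz y 2))) (Pre.crd_pw (P.crd_aX 1) (bz y 3)))
      (Pre.crd_pw (P.crd_aX 2) (bz y 4))) (Pre.crd_pw (P.crd_bX 0) (bz y 5)))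
      (Pre.crd_pw (P.crd_bX 1) (bz y 6))) (Pre.crd_pw (P.crd_bX 2) (bz y 7))
    have e : ∀ a b c : ZMod 2, a • evn (un 0) + b • evn (un 1) + c • evn (un 2) = evn ![a, b, c] := by
      decide +kernel
    simp only [smul_zero, add_zero, zero_add] at h
    rwa [e, e] at h
  · have hk : P.L.kf (bits3 y 8) =
        pw (P.L.kf (un 0)) (bz y 8) * pw (P.L.kf (un 1)) (bz y 9) * pw (P.L.kf (un 2)) (bz y 10) := by
      rw [P.kf_pw, P.kf_pw, P.kf_pw, ← P.L.kf_mul, ← P.L.kf_mul]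
      congr 1
      have e : ∀ a b c : ZMod 2, (![a, b, c] : V3) = a • un 0 + b • un 1 + c • un 2 := by decide +kernel
      exact e _ _ _
    rw [hk]
    simp [el, elAux, gen, mul_assoc]
  · have a0 := congrFun h2 0
    have a1 := congrFun h2 1
    have a2 := congrFun h2 2
    have b0 := congrFun h5 0
    have b1 := congrFun h5 1
    have b2 := congrFun h5 2
    simp only [bits3, Matrix.cons_val_zero, Matrix.cons_val_one, Matrix.cons_val, Pi.zero_apply,
      Nat.reduceAdd] at a0 a1 a2 b0 b1 b2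
    simp [a0, a1, a2, b0, b1, b2]

theorem kf_D (r : V3) : P.L.kf r ∈ F.D := (P.S.mem_K.1 (P.L.kf_K r)).1

theorem el_D (y : ℕ) : P.el y ∈ F.D := by
  obtain ⟨x, hx, e, -⟩ := P.el_split y
  rw [e]
  exact mul_mem (crd_D hx) (P.kf_D _)

theorem el_lm (y : ℕ) (t : U6) : F.lm (P.el y) t = Mm (bits3 y 8) t := by
  obtain ⟨x, hx, e, -⟩ := P.el_split y
  obtain ⟨a, ha, b, hb, rfl, -, -⟩ := hx
  rw [e, F.lm_mul (mul_mem (F.A_le_D ha) (F.B_le_D hb)) (P.kf_D _),
    F.lm_mul (F.A_le_D ha) (F.B_le_D hb), F.lm_A ha, F.lm_B hb, P.L.kf_lm]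

theorem el_inj_zero {y : ℕ} (hy : y < 2048) (h : P.el y = 1) : y = 0 := by
  have hM : ∀ t, Mm (bits3 y 8) t = t := fun t => by rw [← P.el_lm, h, F.lm_one]
  have hr : ∀ r : V3, (∀ t, Mm r t = t) → r = 0 := by decide +kernel
  have h8 := hr _ hM
  obtain ⟨x, hx, e, hx0⟩ := P.el_split y
  rw [h, h8, P.kf_zero, mul_one] at e
  subst e
  obtain ⟨e2, e5⟩ := crd_uniq hx crd_one
  have hev : ∀ c : V3, evn c = 0 → c = 0 := by decide +kernel
  have e := hx0 (hev _ e2) (hev _ e5)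
  obtain ⟨e0, e1⟩ := F.vz_inj (i := bz y 0) (j := bz y 1) (i' := 0) (j' := 0)
    (by rw [← e, pw_zero, pw_zero, one_mul])
  have hb : ∀ i < 11, bz y i = 0 := by
    intro i hi
    interval_cases i
    exacts [e0, e1, congrFun (hev _ e2) 0, congrFun (hev _ e2) 1, congrFun (hev _ e2) 2,
      congrFun (hev _ e5) 0, congrFun (hev _ e5) 1, congrFun (hev _ e5) 2,
      congrFun h8 0, congrFun h8 1, congrFun h8 2]
  refine Nat.zero_of_testBit_eq_false fun i => ?_
  by_cases hi : i < 11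
  · have := hb i hi
    unfold bz at this
    cases hc : y.testBit i
    · rfl
    · rw [hc] at this; exact absurd this one_ne_zero
  · exact Nat.testBit_eq_false_of_lt (lt_of_lt_of_le hy (Nat.pow_le_pow_right (n := 2) (by norm_num) (not_lt.mp hi)))

theorem el_inj {x y : ℕ} (hx : x < 2048) (hy : y < 2048) (h : P.el x = P.el y) : x = y := by
  refine Nat.xor_eq_zero_iff.mp (P.el_inj_zero (Nat.xor_lt_two_pow (n := 11) hx hy) ?_)
  rw [P.el_xor, h, P.el_sq]

/-- The subgroup of order `2^11`. -/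
def Asub : Subgroup G where
  carrier := {g | ∃ y < 2048, P.el y = g}
  one_mem' := ⟨0, by norm_num, P.el_zero⟩
  mul_mem' := by
    rintro _ _ ⟨x, hx, rfl⟩ ⟨y, hy, rfl⟩
    exact ⟨x ^^^ y, Nat.xor_lt_two_pow (n := 11) hx hy, P.el_xor x y⟩
  inv_mem' := by
    rintro _ ⟨x, hx, rfl⟩
    exact ⟨x, hx, (P.el_inv x).symm⟩

theorem mem_Asub {g : G} : g ∈ P.Asub ↔ ∃ y < 2048, P.el y = g := Iff.rfl

theorem card_Asub : Nat.card P.Asub = 2 ^ 11 := by
  have e : Nat.card P.Asub = Nat.card (Fin 2048) := by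
    refine (Nat.card_eq_of_bijective (fun y : Fin 2048 => (⟨P.el y.val, y.val, y.2, rfl⟩ : P.Asub))
      ⟨fun x y h => Fin.ext (P.el_inj x.2 y.2 (congrArg Subtype.val h)), ?_⟩).symm
    rintro ⟨g, y, hy, rfl⟩
    exact ⟨⟨y, hy⟩, rfl⟩
  rw [e, Nat.card_fin]
  norm_num

theorem el_commW {x : G} {s t : U6} (hx : Crd F x s t) (hs : InW s) (ht : InW t) (y : ℕ) :
    x * P.el y = P.el y * x := by
  refine elAux_comm 11 y fun i hi => ?_
  rcases lt_or_ge i 8 with h | h
  · obtain ⟨s', t', hy', h1, h2⟩ := P.gen_crd h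
    exact crd_commW hx hy' hs ht h1 h2
  · obtain ⟨r, hr⟩ := P.gen_kf h hi
    rw [hr]
    exact (kf_comm P.L r hx hs ht).symm

/-- The eight generators. -/
def gEl (j : ℕ) : G :=
  [P.S.p, P.S.q, P.c 0, P.c 1, P.c 2, P.d 0, P.d 1, P.d 2].getD (j % 8) 1

variable {P}

theorem gEl_conj (h : P.Std) {j : ℕ} (hj : j < 8) {y : ℕ} (hy : y < 2048) :
    P.gEl j * P.el y * (P.gEl j)⁻¹ = P.el (lin (tab j) y) := by
  interval_cases j
  exacts [P.p_conj y hy, P.q_conj y hy, P.c_conj h 0 y hy, P.c_conj h 1 y hy, P.c_conj h 2 y hy,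
    P.d_conj h 0 y hy, P.d_conj h 1 y hy, P.d_conj h 2 y hy]

/-- An element of the small group. -/
def qEl (P : Pre F) (k : ℕ) : G :=
  pw P.S.p (bz k 0) * pw (P.c 0) (bz k 1) * pw (P.c 1) (bz k 2) * pw (P.c 2) (bz k 3)

theorem c_mem (P : Pre F) (m : Fin 3) : P.c m ∈ A F.Q F.v :=
  (P.S.pair_rel (P.d_nrm m) (P.qU_odd m)).1

theorem qEl_conj (h : P.Std) (k : ℕ) {y : ℕ} (hy : y < 2048) :
    P.qEl k * P.el y * (P.qEl k)⁻¹ = P.el (qTab k y) := by
  have step : ∀ (g : G) (T : List ℕ) (i : ℕ) (z : ℕ), z < 2048 →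
      (∀ z < 2048, g * P.el z * g⁻¹ = P.el (lin T z)) →
      pw g (bz k i) * P.el z * (pw g (bz k i))⁻¹ = P.el (if k.testBit i then lin T z else z) := by
    intro g T i z hz hg
    unfold bz
    cases k.testBit i
    · simp
    · simpa using hg z hz
  have bnd : ∀ (T : List ℕ) (b : Bool) (z : ℕ), (∀ g ∈ T, g < 2 ^ 11) → z < 2048 →
      (if b then lin T z else z) < 2048 := fun T b z hT hz => by
    cases b
    · simpa using hz
    · simpa [lin] using encAux_lt T 11 hT z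
  have b4 := bnd (imgC 2) (k.testBit 3) y (tab_bound 4 (by norm_num)) hy
  have b3 := bnd (imgC 1) (k.testBit 2) _ (tab_bound 3 (by norm_num)) b4
  have b2 := bnd (imgC 0) (k.testBit 1) _ (tab_bound 2 (by norm_num)) b3
  rw [qEl, show ∀ a b c d x : G, a * b * c * d * x * (a * b * c * d)⁻¹ =
    a * (b * (c * (d * x * d⁻¹) * c⁻¹) * b⁻¹) * a⁻¹ by intros; group]
  rw [step _ (imgC 2) 3 y hy (P.c_conj h 2), step _ (imgC 1) 2 _ b4 (P.c_conj h 1),
    step _ (imgC 0) 1 _ b3 (P.c_conj h 0), step _ imgP 0 _ b2 P.p_conj]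
  rfl

theorem qEl_mem (P : Pre F) (k : ℕ) : P.qEl k ∈ F.Q := by
  have hc := fun m => pw_mem (mem_A.mp (c_mem P m)).1
  exact mul_mem (mul_mem (mul_mem (pw_mem P.S.p_mem _) (hc 0 _)) (hc 1 _)) (hc 2 _)

/-- The radical modulo the elements centralising `A`. -/
theorem Q_decomp (P : Pre F) {q : G} (hq : q ∈ F.Q) :
    ∃ k < 16, ∀ y, ((P.qEl k)⁻¹ * q) * P.el y = P.el y * ((P.qEl k)⁻¹ * q) := by
  obtain ⟨e, a, ha, rfl⟩ : ∃ e : ZMod 2, ∃ a ∈ A F.Q F.v, q = pw P.S.p e * a := by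
    rcases z2 (cp (F.T.c q)) with h | h
    · exact ⟨0, q, F.mem_A_iff.2 ⟨hq, h⟩, by rw [pw_zero, one_mul]⟩
    · refine ⟨1, P.S.p⁻¹ * q, F.mem_A_iff.2 ⟨mul_mem (inv_mem P.S.p_mem) hq, ?_⟩, by
        rw [pw_one, mul_inv_cancel_left]⟩
      rw [F.T.c_mul _ (inv_mem P.S.p_mem) _ hq, F.T.c_inv P.S.p_mem, P.S.p_c, cp_add, cp_p0, h]
      exact (by decide : (1 : ZMod 2) + 1 = 0)
  have key : ∀ e a b c : ZMod 2, ∃ k < 16, bz k 0 = e ∧ bz k 1 = a ∧ bz k 2 = b ∧ bz k 3 = c := by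
    decide +kernel
  obtain ⟨k, hk, k0, k1, k2, k3⟩ := key e (F.κ a 1) (F.κ a 3) (F.κ a 5)
  refine ⟨k, hk, fun y => ?_⟩
  have hc := crd_mul (crd_mul (Pre.crd_pw (P.crd_c 0) (bz k 1)) (Pre.crd_pw (P.crd_c 1) (bz k 2)))
    (Pre.crd_pw (P.crd_c 2) (bz k 3))
  have hcrd := crd_mul (crd_inv hc) (crd_A ha)
  have hInW : ∀ t : U6, InW (t 1 • odd (un 0) + t 3 • odd (un 1) + t 5 • odd (un 2) + t) := by
    decide +kernel
  refine ?_
  rw [qEl, k0, show ∀ u a' b' c' : G, (u * a' * b' * c')⁻¹ * (u * a) = (a' * b' * c')⁻¹ * a by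
    intros; group]
  refine P.el_commW hcrd ?_ ?_ y
  · rw [k1, k2, k3]; exact hInW _
  · simp only [smul_zero, add_zero]; decide

theorem comm_el (h : P.Std) {y : ℕ} (hy : y < 2048) {q : G} (hq : q ∈ F.Q) :
    ∃ k < 16, ⁅P.el y, q⁆ = P.el (y ^^^ qTab k y) := by
  obtain ⟨k, hk, hc⟩ := P.Q_decomp hq
  refine ⟨k, hk, ?_⟩
  rw [P.el_xor, ← qEl_conj h k hy, commutatorElement_def, P.el_inv]
  calc P.el y * q * P.el y * q⁻¹
      = P.el y * P.qEl k * (((P.qEl k)⁻¹ * q) * P.el y) * ((P.qEl k)⁻¹ * q)⁻¹ * (P.qEl k)⁻¹ := by group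
    _ = _ := by rw [hc]; group

theorem comm_qEl (h : P.Std) {y : ℕ} (hy : y < 2048) (k : ℕ) :
    ⁅P.el y, P.qEl k⁆ = P.el (y ^^^ qTab k y) := by
  rw [P.el_xor, ← qEl_conj h k hy, commutatorElement_def, P.el_inv]
  group

theorem el_Q (P : Pre F) {x : ℕ} (hx : x < 32) : P.el x ∈ F.Q := by
  obtain ⟨a, b, e⟩ : ∃ a b : ZMod 2, P.el x = pw F.z a * pw F.v b * pw (P.aX 0) (bz x 2) *
      pw (P.aX 1) (bz x 3) * pw (P.aX 2) (bz x 4) := by
    refine ⟨bz x 0, bz x 1, ?_⟩
    have hz : ∀ i, 5 ≤ i → bz x i = 0 := fun i hi => by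
      rw [bz, Nat.testBit_eq_false_of_lt (lt_of_lt_of_le hx (Nat.pow_le_pow_right (n := 2) (by norm_num) hi))]
      rfl
    simp [el, elAux, gen, mul_assoc, hz]
  have hX : ∀ i, P.aX i ∈ F.Q := fun i =>
    (mem_A.mp (P.S.pair_rel (P.bX_nrm i) (P.qU_evn i)).1).1
  rw [e]
  exact mul_mem (mul_mem (mul_mem (mul_mem (pw_mem F.T.data.z_mem _) (pw_mem F.hv _))
    (pw_mem (hX 0) _)) (pw_mem (hX 1) _)) (pw_mem (hX 2) _)

theorem c_el_half (P : Pre F) {x : ℕ} (hx : x < 32) :
    F.T.c (P.el x) = F.T.c (P.el (2 * (x / 2))) := by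
  have e : P.el x = P.el (x % 2) * P.el (2 * (x / 2)) := by
    rw [← P.el_xor]
    congr 1
    exact (by decide +kernel : ∀ x < 32, x = x % 2 ^^^ 2 * (x / 2)) x hx
  have h0 : F.T.c (P.el (x % 2)) = 0 := by
    rcases Nat.mod_two_eq_zero_or_one x with h | h <;> rw [h]
    · rw [P.el_zero, F.T.c_one]
    · rw [← P.z_eq]; exact F.T.c_z
  rw [e, F.T.c_mul _ (P.el_Q (by omega)) _ (P.el_Q (by omega)), h0, zero_add]

theorem not_Q (P : Pre F) {y : ℕ} (hy : y < 2048) (h32 : ¬ y < 32) : P.el y ∉ F.Q := by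
  intro hQ
  have hM : ∀ t, Mm (bits3 y 8) t = t := fun t => by
    rw [← P.el_lm, F.lm_A (mem_A.mpr ⟨hQ, (F.mem_D.1 (P.el_D y)).2⟩)]
  have hr : ∀ r : V3, (∀ t, Mm r t = t) → r = 0 := by decide +kernel
  obtain ⟨x, hx, e, -⟩ := P.el_split y
  rw [hr _ hM, P.kf_zero, mul_one] at e
  subst e
  have e5 := (crd_uniq hx (crd_A (mem_A.mpr ⟨hQ, (F.mem_D.1 (P.el_D y)).2⟩))).2
  have hev : ∀ c : V3, evn c = 0 → c = 0 := by decide +kernel
  have h8 := hr _ hM
  have h5 := hev _ e5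
  have hb : ∀ i, 5 ≤ i → y.testBit i = false := by
    intro i hi
    by_cases hi' : i < 11
    · have hz : bz y i = 0 := by
        interval_cases i
        exacts [congrFun h5 0, congrFun h5 1, congrFun h5 2, congrFun h8 0, congrFun h8 1,
          congrFun h8 2]
      unfold bz at hz
      cases hc : y.testBit i
      · rfl
      · rw [hc] at hz; exact absurd hz one_ne_zero
    · exact Nat.testBit_eq_false_of_lt (lt_of_lt_of_le hy (Nat.pow_le_pow_right (n := 2) (by norm_num) (not_lt.mp hi')))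
  exact h32 (Nat.lt_pow_two_of_testBit y (n := 5) hb)

theorem thin_conj (h : P.Std) {y : ℕ} (hy : y < 2048) (h32 : ¬ y < 32) (ht : thinOK y = true) :
    IsConj F.z (P.el y) ↔ zfree y = true := by
  classical
  simp only [thinOK, Bool.and_eq_true, Nat.ble_eq, List.all_eq_true, List.mem_range,
    Nat.blt_eq] at ht
  obtain ⟨hlen, hlow⟩ := ht
  set L := (List.range 16).filter fun j => (List.range 16).any fun k => (y ^^^ qTab k y) / 2 == j
    with hL
  have hmem : ∀ k < 16, (y ^^^ qTab k y) / 2 ∈ L := fun k hk => by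
    rw [hL, List.mem_filter, List.mem_range, List.any_eq_true]
    exact ⟨by have := hlow k hk; omega, k, List.mem_range.2 hk, by simp⟩
  have huD := P.el_D y
  have huz := (F.mem_D.1 huD).1
  have hle : Module.finrank (ZMod 2) (resSpace (F.T.ρ (P.el y))) ≤ 2 := by
    rw [← range_gm]
    have hsub : (LinearMap.range (gm (F.T.ρ (P.el y))) : Set V8) ⊆
        ↑((L.toFinset).image fun j => F.T.c (P.el (2 * j))) := by
      rintro _ ⟨w, rfl⟩
      obtain ⟨q, hq, rfl⟩ := F.T.c_surj w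
      obtain ⟨k, hk, e⟩ := comm_el h hy hq
      have hm := F.T.data.norm _ huz q hq
      have hc : F.T.c ⁅P.el y, q⁆ = gm (F.T.ρ (P.el y)) (F.T.c q) := by
        rw [commutatorElement_def, F.T.c_mul _ hm _ (inv_mem hq), F.T.c_inv hq,
          F.T.ρ_conj _ huz q hq, gm_apply]
      rw [Finset.coe_image, Set.mem_image]
      exact ⟨_, List.mem_toFinset.2 (hmem k hk), by rw [← c_el_half P (hlow k hk), ← e, hc]⟩
    have h1 : Nat.card (LinearMap.range (gm (F.T.ρ (P.el y)))) ≤ 4 := by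
      have := Set.ncard_le_ncard hsub (Finset.finite_toSet _)
      rw [Set.ncard_coe_finset] at this
      rw [← SetLike.coe_sort_coe, Nat.card_coe_set_eq]
      exact this.trans (Finset.card_image_le.trans ((List.toFinset_card_le L).trans hlen))
    rw [Module.natCard_eq_pow_finrank (K := ZMod 2), Nat.card_zmod] at h1
    exact (Nat.pow_le_pow_iff_right (a := 2) (by norm_num)).1 (h1.trans (by norm_num : 4 ≤ 2 ^ 2))
  have hQ := P.not_Q hy h32
  obtain ⟨g, hg, hk⟩ := F.classify_thin huz (P.el_sq y) hQ hle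
  have hc : IsConj (P.el y) (g * P.el y * g⁻¹) := isConj_iff.2 ⟨g, rfl⟩
  have hgz : g * F.z * g⁻¹ = F.z := mul_inv_eq_iff_eq_mul.mpr hg
  have hzf : zfree y = true ↔ ∀ k < 16, y ^^^ qTab k y ≠ 1 := by simp [zfree]
  rw [hzf]
  rcases hk with hk | hk | hk
  · have hne : P.el y ≠ 1 := fun e => hQ (e ▸ one_mem _)
    refine ⟨fun _ k hk' e => ?_, fun _ => ?_⟩
    · have hu' : g * P.el y * g⁻¹ * F.z = F.z * (g * P.el y * g⁻¹) :=
        ((Commute.mul_left hg huz).mul_left (Commute.inv_left hg)).eq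
      refine F.noZ hk hu' (fun h' => hQ ((F.T.data.norm_iff g hg _).1 h'))
        (F.T.data.norm g hg _ (qEl_mem P k)) ?_
      rw [show ⁅g * P.el y * g⁻¹, g * P.qEl k * g⁻¹⁆ = g * ⁅P.el y, P.qEl k⁆ * g⁻¹ by
        simp only [commutatorElement_def]; group, comm_qEl h hy, e, ← P.z_eq, hgz]
    · exact (hc.trans (F.inP_conj hk (conj_invol (P.el_sq y))
        fun e => hne (conj_eq_one_iff.mp e))).symm
  all_goals
    have key : ∀ {A W : U6}, Pair A W → Fixed A W → F.TypP A W (g * P.el y * g⁻¹) →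
        (IsConj F.z (P.el y) ↔ ∀ k < 16, y ^^^ qTab k y ≠ 1) := by
      intro A W hp hf hu
      refine ⟨fun hz => absurd (hz.trans hc) (F.typ_not_conj hp hf hu), fun hall => ?_⟩
      obtain ⟨q, hq, e⟩ := F.typ_comm_z hp hu
      have hgi : g⁻¹ * F.z = F.z * g⁻¹ := (Commute.inv_left hg).eq
      have hq' : g⁻¹ * q * g ∈ F.Q := by
        simpa using F.T.data.norm g⁻¹ hgi q hq
      obtain ⟨k, hk', e'⟩ := comm_el h hy hq'
      refine absurd ?_ (hall k hk')
      refine P.el_inj (lt_trans (hlow k hk') (by norm_num)) (by norm_num) ?_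
      rw [← e', ← P.z_eq]
      calc ⁅P.el y, g⁻¹ * q * g⁆ = g⁻¹ * ⁅g * P.el y * g⁻¹, q⁆ * g := by
            simp only [commutatorElement_def]; group
        _ = F.z := by rw [e, hgi, inv_mul_cancel_right]
  exacts [key pairB fixedB hk, key pairC fixedC hk]

/-- The classes. -/
theorem classes (h : P.Std) {y : ℕ} (hy : y < 2048) (h0 : y ≠ 0) :
    IsConj F.z (P.el y) ↔ wz y = true := by
  have hrep : ∀ r ∈ reps, r < 2048 ∧ (IsConj F.z (P.el r) ↔ wz r = true) := by
    intro r hr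
    have hok := List.all_eq_true.1 reps_ok r hr
    simp only [repOK, Bool.and_eq_true, Bool.or_eq_true, Nat.blt_eq, bne_iff_ne, ne_eq,
      Bool.not_eq_true', beq_iff_eq] at hok
    obtain ⟨hlt, ⟨⟨h1, h2⟩, h3⟩ | ⟨⟨h1, h2⟩, h3⟩⟩ := hok
    · refine ⟨hlt, iff_of_true ?_ h3⟩
      exact (F.inQ_conj (el_Q P h2) (P.el_sq r) fun e => h1 (P.el_inj_zero hlt e)).symm
    · rw [← h3]
      refine ⟨hlt, thin_conj h hlt ?_ h2⟩
      intro hh
      rw [← Nat.blt_eq] at hh
      simp [hh] at h1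
  have inv : ∀ n s, reach n = some s → ∀ i, s.testBit i = true →
      i < 2048 ∧ (IsConj F.z (P.el i) ↔ wz i = true) := by
    intro n
    induction n with
    | zero =>
      intro s hs i hi
      simp only [reach, Option.some.injEq] at hs
      subst hs
      suffices key : ∀ (l : List ℕ) (s : ℕ), (l.foldl (fun s r => s ||| 1 <<< r) s).testBit i = true →
          s.testBit i = true ∨ i ∈ l by
        rcases key reps 0 hi with hk | hk
        · simp at hk
        · exact hrep i hk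
      intro l
      induction l with
      | nil => intro s hs; exact Or.inl hs
      | cons r l ih =>
        intro s hs
        rcases ih _ hs with hk | hk
        · rw [Nat.testBit_or, Bool.or_eq_true, Nat.one_shiftLeft, Nat.testBit_two_pow,
            decide_eq_true_eq] at hk
          rcases hk with hk | rfl
          · exact Or.inl hk
          · exact Or.inr List.mem_cons_self
        · exact Or.inr (List.mem_cons_of_mem _ hk)
    | succ n ih =>
      intro s hs i hi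
      rw [reach] at hs
      split at hs
      · simp at hs
      · next s' hs' =>
        simp only at hs
        split at hs
        · next hc =>
          simp only [Bool.and_eq_true, Nat.blt_eq] at hc
          rw [Option.some.injEq] at hs
          subst hs
          rw [Nat.testBit_or, Bool.or_eq_true, Nat.one_shiftLeft, Nat.testBit_two_pow,
            decide_eq_true_eq] at hi
          rcases hi with hi | rfl
          · exact ih s' hs' i hi
          · set e := (steps >>> (14 * n)) &&& 16383 with he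
            obtain ⟨hlt, hiff⟩ := ih s' hs' _ hc.2
            refine ⟨hc.1, ?_⟩
            have hj : e % 8 < 8 := Nat.mod_lt _ (by norm_num)
            have et : tab e = tab (e % 8) := by simp [tab]
            have hg := gEl_conj h hj hc.1
            rw [et] at hiff
            rw [← wz_tab hj hc.1, ← hiff]
            have hcj : IsConj (P.el (e / 8)) (P.el (lin (tab (e % 8)) (e / 8))) := isConj_iff.2 ⟨_, hg⟩
            exact ⟨fun hz => hz.trans hcj, fun hz => hz.trans hcj.symm⟩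
        · simp at hs
  refine (inv _ _ reach_all y ?_).2
  rw [show (2 : ℕ) ^ 2048 - 2 = 2 ^ 2048 - (1 + 1) from rfl, Nat.testBit_two_pow_sub_succ (by decide +kernel)]
  simp [hy, show Nat.testBit 1 y = false by
    rw [Nat.testBit_eq_false_of_lt]; exact Nat.one_lt_two_pow h0]

end Pre

end Cfsg.Agent.CoOneA
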