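/-
The normaliser of the subgroup of order `2^11` and its map to M24.

* `mem_of_comm_low` : the subgroup is its own centraliser
* `exists_hom` : a homomorphism to M24 with kernel the subgroup, compatible with the words
-/
import Cfsg.Agent.Lib.CoOneA.Classify
import Cfsg.Agent.Lib.GolayModule.Duads

set_option autoImplicit false
set_option maxRecDepth 100000
open scoped commutatorElement

namespace Cfsg.Agent.CoOneA

open Cfsg Cfsg.Agent.CoType Cfsg.Agent.Orth Cfsg.Agent.LargeExtraspecial Cfsg.Agent.LargeExtraspecial.Cfg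
open QuadraticMap (polar)
open Cfsg.Agent.Golay (popcount allBits forall_lt_two_pow word word_xor word_zero support₂_word
  card_pts isCode word_mem_golayCode_iff validPerm imgMask toPerm isAut validPerm_of_isAut
  toPerm_mem_M24 eq_of_support₂_eq)
open Cfsg.Agent.GolayModule (perm_mem word_perm exists_perm_of_classes word_imgMask eq_of_sums_eq)

theorem forall_of_basis {Pr : ℕ → Prop} (h0 : Pr 0) (hx : ∀ x y, Pr x → Pr y → Pr (x ^^^ y)) :
    ∀ n, (∀ i < n, Pr (2 ^ i)) → ∀ y < 2 ^ n, Pr y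
  | 0, _, y, hy => by rwa [show y = 0 by omega]
  | n + 1, h, y, hy => by
    have ih := forall_of_basis h0 hx n fun i hi => h i (by omega)
    by_cases hb : y < 2 ^ n
    · exact ih y hb
    · have hy' : y ^^^ 2 ^ n < 2 ^ n := by
        have hz : y / 2 ^ n = 1 := by
          apply Nat.div_eq_of_lt_le
          · omega
          · rw [pow_succ] at hy; omega
        refine Nat.lt_pow_two_of_testBit _ fun i hi => ?_
        rw [Nat.testBit_xor, Nat.testBit_two_pow]
        rcases eq_or_lt_of_le hi with rfl | hlt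
        · simp [Nat.testBit_eq_decide_div_mod_eq, hz]
        · rw [Nat.testBit_lt_two_pow (lt_of_lt_of_le hy (Nat.pow_le_pow_right (by norm_num) hlt))]
          simp [show n ≠ i by omega]
      rw [← Nat.xor_xor_cancel_right y (2 ^ n)]
      exact hx _ _ (ih _ hy') (h n (by omega))

/-! ### Words -/

/-- The word of an element as a function. -/
noncomputable def pw24 (y : ℕ) : GolayPt → ZMod 2 := word (psi y)

/-- The all-ones word times a scalar. -/
def ones (b : ZMod 2) : GolayPt → ZMod 2 := fun _ => b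

/-- The action of a permutation on words. -/
def act (σ : Equiv.Perm GolayPt) (w : GolayPt → ZMod 2) : GolayPt → ZMod 2 := fun p => w (σ.symm p)

theorem act_mul (σ τ : Equiv.Perm GolayPt) (w : GolayPt → ZMod 2) :
    act (σ * τ) w = act σ (act τ w) := rfl

theorem act_add (σ : Equiv.Perm GolayPt) (v w : GolayPt → ZMod 2) :
    act σ (v + w) = act σ v + act σ w := rfl

theorem act_ones (σ : Equiv.Perm GolayPt) (b : ZMod 2) : act σ (ones b) = ones b := rfl

theorem act_one (w : GolayPt → ZMod 2) : act 1 w = w := rfl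

theorem ones_add (a b : ZMod 2) : ones a + ones b = ones (a + b) := rfl

theorem pw24_xor (x y : ℕ) : pw24 (x ^^^ y) = pw24 x + pw24 y := by
  rw [pw24, psi, lin_xor, word_xor]; rfl

theorem psi_isCode : allBits (fun y => isCode (psi y) && (y == 0 || popcount (psi y) == 8 ||
    popcount (psi y) == 12 || popcount (psi y) == 16) && Nat.blt (psi y) (2 ^ 24)) 11 0 = true := by
  decide +kernel

theorem psi_spec {y : ℕ} (hy : y < 2048) : pw24 y ∈ golayCode ∧
    (y = 0 ∨ popcount (psi y) = 8 ∨ popcount (psi y) = 12 ∨ popcount (psi y) = 16) := by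
  have h := forall_lt_two_pow psi_isCode (i := y) (by simpa using hy)
  simp only [Bool.and_eq_true, Bool.or_eq_true, beq_iff_eq, Nat.blt_eq] at h
  obtain ⟨⟨h1, h2⟩, h3⟩ := h
  exact ⟨(word_mem_golayCode_iff h3).2 h1, by tauto⟩

theorem card_pw24 (y : ℕ) : (support₂ (pw24 y)).card = popcount (psi y) := by
  rw [pw24, support₂_word, card_pts]

theorem card_ones : (support₂ (ones 1 : GolayPt → ZMod 2)).card = 24 := by decide +kernel

theorem ones_mem (b : ZMod 2) : ones b ∈ golayCode := by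
  rcases z2 b with rfl | rfl
  · exact golayCode.zero_mem
  · exact GolayModule.one_mem

theorem pw24_inj {x y : ℕ} (hx : x < 2048) (hy : y < 2048) {b : ZMod 2}
    (h : pw24 x = pw24 y + ones b) : x = y ∧ b = 0 := by
  have e : pw24 (x ^^^ y) = ones b := by
    rw [pw24_xor, h, add_comm (pw24 y), add_assoc, ZModModule.add_self, add_zero]
  have hlt : x ^^^ y < 2048 := Nat.xor_lt_two_pow (n := 11) hx hy
  rcases z2 b with rfl | rfl
  · refine ⟨Nat.xor_eq_zero_iff.mp ?_, rfl⟩
    rcases (psi_spec hlt).2 with h0 | h0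
    · exact h0
    · have hc := card_pw24 (x ^^^ y)
      rw [e, show support₂ (ones 0 : GolayPt → ZMod 2) = ∅ by decide +kernel, Finset.card_empty] at hc
      omega
  · exfalso
    have hc := card_pw24 (x ^^^ y)
    rw [e, card_ones] at hc
    rcases (psi_spec hlt).2 with h0 | h0
    · rw [h0] at hc; exact absurd hc (by decide +kernel)
    · omega

/-- The code in coordinates. -/
noncomputable def phi (p : Fin 2048 × ZMod 2) : ↥golayCode :=
  ⟨pw24 p.1 + ones p.2, golayCode.add_mem (psi_spec p.1.2).1 (ones_mem p.2)⟩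

theorem phi_bij : Function.Bijective phi := by
  refine (Nat.bijective_iff_injective_and_card phi).2 ⟨fun p q h => ?_, ?_⟩
  · have h' : pw24 p.1 + ones p.2 = pw24 q.1 + ones q.2 := congrArg Subtype.val h
    have e : pw24 p.1 = pw24 q.1 + ones (q.2 + p.2) := by
      rw [← ones_add, ← add_assoc, ← h', add_assoc, ZModModule.add_self, add_zero]
    obtain ⟨e1, e2⟩ := pw24_inj p.1.2 q.1.2 e
    exact Prod.ext (Fin.ext e1) (CoType.add_eq_zero_z2 e2).symm
  · rw [Nat.card_prod, Nat.card_fin, Nat.card_zmod, Golay.natCard_golayCode]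

theorem card_add_ones (w : GolayPt → ZMod 2) :
    (support₂ (w + ones 1)).card + (support₂ w).card = 24 := by
  have hu : (Finset.univ : Finset GolayPt).card = 24 := by decide +kernel
  have h : ∀ a : ZMod 2, (a + 1 ≠ 0 ↔ ¬ a ≠ 0) := by decide
  simp only [support₂, ones, Pi.add_apply, h]
  rw [add_comm, Finset.card_filter_add_card_filter_not, hu]

/-- A permutation inducing a map of the coordinates is unique. -/
theorem perm_unique {σ τ : Equiv.Perm GolayPt}
    (hs : ∀ y < 2048, ∃ b, act σ (pw24 y) = act τ (pw24 y) + ones b) : σ = τ := by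
  have hbasis : ∀ i < 11, wz (if i < 8 then 2 ^ i else 2 ^ (i - 6)) = true ∧
      (i < 8 ∨ wz (2 ^ i ^^^ 2 ^ (i - 6)) = true) := by decide +kernel
  have hcard : ∀ (π : Equiv.Perm GolayPt) (w : GolayPt → ZMod 2),
      (support₂ (act π w)).card = (support₂ w).card := fun π w => by
    unfold act; rw [word_perm, Finset.card_smul_finset]
  have key := card_add_ones
  have hoct : ∀ y < 2048, wz y = true → act σ (pw24 y) = act τ (pw24 y) := by
    intro y hy hw
    obtain ⟨b, hb⟩ := hs y hy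
    rcases z2 b with rfl | rfl
    · rw [hb]; exact add_zero _
    · exfalso
      have h := key (act τ (pw24 y))
      rw [← hb, hcard, hcard, card_pw24] at h
      simp only [wz, Bool.or_eq_true, beq_iff_eq] at hw
      omega
  have hall : ∀ y < 2 ^ 11, act σ (pw24 y) = act τ (pw24 y) := by
    refine forall_of_basis ?_ (fun x y hx hy => by rw [pw24_xor, act_add, act_add, hx, hy]) 11
      fun i hi => ?_
    · have : pw24 0 = 0 := by rw [pw24, show psi 0 = 0 by decide +kernel, word_zero]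
      rw [this]; rfl
    · obtain ⟨h1, h2⟩ := hbasis i hi
      have hlt : 2 ^ i < 2 ^ 11 := Nat.pow_lt_pow_right (by norm_num) hi
      by_cases h8 : i < 8
      · rw [if_pos h8] at h1
        exact hoct _ (by simpa using hlt) h1
      · rw [if_neg h8] at h1
        have hlt' : 2 ^ (i - 6) < 2 ^ 11 := Nat.pow_lt_pow_right (by norm_num) (by omega)
        rw [← Nat.xor_xor_cancel_right (2 ^ i) (2 ^ (i - 6)), pw24_xor, act_add, act_add,
          hoct _ (by simpa using Nat.xor_lt_two_pow hlt hlt') (h2.resolve_left h8),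
          hoct _ (by simpa using hlt') h1]
  refine Equiv.ext fun p => ?_
  have hp : ∀ c ∈ golayCode, c (σ.symm (σ p)) = c (τ.symm (σ p)) := by
    intro c hc
    obtain ⟨⟨y, b⟩, hyb⟩ := phi_bij.2 ⟨c, hc⟩
    have e : pw24 y.val + ones b = c := congrArg Subtype.val hyb
    have h := congrFun (hall y.val (by simpa using y.2)) (σ p)
    simp only [act] at h
    rw [← e]
    simp only [Pi.add_apply, h]
    rfl
  have h := eq_of_sums_eq (S := {σ.symm (σ p)}) (T := {τ.symm (σ p)}) (by simp)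
    (fun c hc => by simpa using hp c hc)
  rw [Finset.singleton_inj, Equiv.symm_apply_apply] at h
  exact ((congrArg τ h).trans (τ.apply_symm_apply _)).symm

/-! ### The subgroup is its own centraliser -/

theorem W_fix_odd : ∀ i : Fin 3, ∀ y : U6, qU y = 0 →
    bU y (evn (un 0)) = (if i = 0 then 1 else 0) → bU y (evn (un 1)) = (if i = 1 then 1 else 0) →
    bU y (evn (un 2)) = (if i = 2 then 1 else 0) →
    ∃ c : V3, y = odd (un i) + evn c ∧ c i = 0 := by
  decide +kernel

theorem W_fix_sym : ∀ i j : Fin 3, i ≠ j → ∀ c c' : V3,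
    bU (odd (un i) + evn c) (odd (un j) + evn c') = 0 → c j = c' i := by
  decide +kernel

theorem W_fix_Mm : ∀ c0 c1 c2 : V3, c0 0 = 0 → c1 1 = 0 → c2 2 = 0 → c0 1 = c1 0 → c0 2 = c2 0 →
    c1 2 = c2 1 → Mm ![c2 1, c2 0, c1 0] (odd (un 0)) = odd (un 0) + evn c0 ∧
      Mm ![c2 1, c2 0, c1 0] (odd (un 1)) = odd (un 1) + evn c1 ∧
      Mm ![c2 1, c2 0, c1 0] (odd (un 2)) = odd (un 2) + evn c2 := by
  decide +kernel

theorem Mm_lin : ∀ (r : V3) (t : U6), Mm r t = t 0 • Mm r (evn (un 0)) + t 1 • Mm r (odd (un 0)) +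
    t 2 • Mm r (evn (un 1)) + t 3 • Mm r (odd (un 1)) + t 4 • Mm r (evn (un 2)) +
    t 5 • Mm r (odd (un 2)) := by
  decide +kernel

variable {G : Type*} [Group G] {F : Fr G} [Finite G]

theorem fix_W {x : G} (hx : x ∈ F.D) (hW : ∀ i, F.lm x (evn (un i)) = evn (un i)) :
    ∃ r, ∀ t, F.lm x t = Mm r t := by
  have h : ∀ i, ∃ c : V3, F.lm x (odd (un i)) = odd (un i) + evn c ∧ c i = 0 := by
    intro i
    have hb : ∀ i k : Fin 3, bU (odd (un i)) (evn (un k)) = (if i = k then 1 else 0) := by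
      decide +kernel
    have hq : ∀ i : Fin 3, qU (odd (un i)) = 0 := by decide +kernel
    have hk : ∀ k, bU (F.lm x (odd (un i))) (evn (un k)) = (if i = k then 1 else 0) := fun k => by
      conv_lhs => rw [← hW k]
      rw [F.lm_bU hx, hb]
    exact W_fix_odd i _ ((F.lm_qU hx _).trans (hq i)) (hk 0) (hk 1) (hk 2)
  choose c hc hd using h
  have hs : ∀ i j, i ≠ j → c i j = c j i := fun i j hij => W_fix_sym i j hij _ _ (by
    rw [← hc, ← hc, F.lm_bU hx]
    exact (by decide +kernel : ∀ i j : Fin 3, bU (odd (un i)) (odd (un j)) = 0) i j)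
  obtain ⟨e0, e1, e2⟩ := W_fix_Mm (c 0) (c 1) (c 2) (hd 0) (hd 1) (hd 2) (hs 0 1 (by decide))
    (hs 0 2 (by decide)) (hs 1 2 (by decide))
  refine ⟨![c 2 1, c 2 0, c 1 0], fun t => ?_⟩
  have hev : ∀ (r : V3) (i : Fin 3), Mm r (evn (un i)) = evn (un i) := fun r i => Mm_fix r _ (inW_evn _)
  have hdec : ∀ t : U6, t = t 0 • evn (un 0) + t 1 • odd (un 0) + t 2 • evn (un 1) + t 3 • odd (un 1) +
      t 4 • evn (un 2) + t 5 • odd (un 2) := by decide +kernel
  rw [Mm_lin, e0, e1, e2, hev, hev, hev]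
  conv_lhs => rw [hdec t]
  simp only [F.lm_add, F.lm_smul, hW, hc]

namespace Pre

variable (P : Pre F)

theorem mem_of_comm_low {x : G} (h : ∀ i < 5, x * P.gen i = P.gen i * x) : x ∈ P.Asub := by
  have hxD : x ∈ F.D := F.mem_D.2 ⟨h 0 (by norm_num), h 1 (by norm_num)⟩
  have hg : ∀ i : Fin 3, P.gen (2 + i.val) = P.aX i := fun i => by fin_cases i <;> rfl
  have hW : ∀ i, F.lm x (evn (un i)) = evn (un i) := fun i => by
    have hc := crd_conj_D hxD (P.crd_aX i)
    rw [← hg, h _ (by omega), mul_inv_cancel_right, hg] at hc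
    exact (crd_uniq hc (P.crd_aX i)).1
  obtain ⟨r, hr⟩ := fix_W hxD hW
  have hx' : x * P.L.kf r ∈ F.D := mul_mem hxD (P.kf_D r)
  obtain ⟨a, ha, b, hb, hab⟩ := F.mem_AB_of_fix hx' fun t => by
    rw [F.lm_mul hxD (P.kf_D r), P.L.kf_lm, hr, ← Mm_add, ZModModule.add_self, Mm_zero]
  have hcr : Crd F (x * P.L.kf r) (F.κ a) (F.θ b) := ⟨a, ha, b, hb, hab, rfl, rfl⟩
  have hlow : ∀ i : Fin 3, bU (F.κ a) (evn (un i)) + bU (evn (un i)) (F.θ b) = 0 ∧
      bU (evn (un i)) (F.θ b) = 0 := by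
    intro i
    have h1 := crd_conj hcr (P.crd_aX i)
    have h2 : x * P.L.kf r * P.aX i * (x * P.L.kf r)⁻¹ = P.aX i := by
      have hk := kf_comm P.L r (P.crd_aX i) (inW_evn _) (by decide)
      calc x * P.L.kf r * P.aX i * (x * P.L.kf r)⁻¹ = x * (P.L.kf r * P.aX i) * (P.L.kf r)⁻¹ * x⁻¹ := by
            group
        _ = x * P.aX i * x⁻¹ := by rw [hk]; group
        _ = P.aX i := by rw [← hg, h _ (by omega), mul_inv_cancel_right]
    rw [h2] at h1
    obtain ⟨e1, e2⟩ := F.vz_inj (i := bU (F.κ a) (evn (un i) + 0) + bU (evn (un i)) (F.θ b))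
      (j := bU (F.κ a) 0 + bU (evn (un i)) (F.θ b) + bU (F.θ b) 0) (i' := 0) (j' := 0)
      (by rw [pw_zero, pw_zero, one_mul]; exact left_eq_mul.mp h1)
    simp only [add_zero, bU_zero_right, zero_add] at e1 e2
    exact ⟨e1, e2⟩
  have hperp : ∀ s : U6, (∀ i : Fin 3, bU s (evn (un i)) = 0) → InW s := by decide +kernel
  have ht : InW (F.θ b) := hperp _ fun i => by rw [bU_comm]; exact (hlow i).2
  have hs : InW (F.κ a) := hperp _ fun i => by
    have := (hlow i).1
    rwa [(hlow i).2, add_zero] at this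
  have key : ∀ u w : V3, ∃ y < 256, bits3 y 2 = u ∧ bits3 y 5 = w ∧ bits3 y 8 = 0 := by decide +kernel
  obtain ⟨y, hy, e2, e5, e8⟩ := key ![F.κ a 0, F.κ a 2, F.κ a 4] ![F.θ b 0, F.θ b 2, F.θ b 4]
  obtain ⟨x0, hx0, ey, -⟩ := P.el_split y
  rw [e8, P.kf_zero, mul_one] at ey
  rw [← ey, e2, e5, ← (inW_iff _).1 hs, ← (inW_iff _).1 ht] at hx0
  have hd := crd_mul (crd_inv hx0) hcr
  rw [ZModModule.add_self, ZModModule.add_self] at hd
  obtain ⟨i, j, hij⟩ := crd_zero hd
  have hm : pw F.z i * pw F.v j ∈ P.Asub := mul_mem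
    (pw_mem ((P.mem_Asub).2 ⟨2 ^ 0, by norm_num, P.el_single (by norm_num)⟩) i)
    (pw_mem ((P.mem_Asub).2 ⟨2 ^ 1, by norm_num, P.el_single (by norm_num)⟩) j)
  have hkm : P.L.kf r ∈ P.Asub := by
    have : ∀ r : V3, ∃ y < 2048, bits3 y 2 = 0 ∧ bits3 y 5 = 0 ∧ bits3 y 8 = r ∧ bz y 0 = 0 ∧
        bz y 1 = 0 := by decide +kernel
    obtain ⟨k, hk, k2, k5, k8, k0, k1⟩ := this r
    obtain ⟨x1, -, ek, hx1⟩ := P.el_split k
    refine P.mem_Asub.2 ⟨k, hk, ?_⟩
    rw [ek, hx1 k2 k5, k0, k1, k8, pw_zero, pw_zero, one_mul, one_mul]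
  have e : x = P.el y * (pw F.z i * pw F.v j) * (P.L.kf r)⁻¹ := by rw [← hij]; group
  rw [e]
  exact mul_mem (mul_mem (P.mem_Asub.2 ⟨y, by omega, rfl⟩) hm) (inv_mem hkm)

theorem el_mem {y : ℕ} (hy : y < 2048) : P.el y ∈ P.Asub := ⟨y, hy, rfl⟩

theorem gen_mem {i : ℕ} (hi : i < 11) : P.gen i ∈ P.Asub :=
  ⟨2 ^ i, Nat.pow_lt_pow_right (by norm_num) hi, P.el_single hi⟩

theorem Asub_comm {a b : G} (ha : a ∈ P.Asub) (hb : b ∈ P.Asub) : a * b = b * a := by
  obtain ⟨x, -, rfl⟩ := P.mem_Asub.1 ha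
  obtain ⟨y, -, rfl⟩ := P.mem_Asub.1 hb
  exact P.el_comm x y

theorem mem_norm {g : G} (h : ∀ i < 11, g * P.gen i * g⁻¹ ∈ P.Asub) :
    g ∈ Subgroup.normalizer (P.Asub : Set G) := by
  have hall : ∀ y < 2 ^ 11, g * P.el y * g⁻¹ ∈ P.Asub := by
    refine forall_of_basis (by rw [P.el_zero, mul_one, mul_inv_cancel]; exact one_mem _)
      (fun x y hx hy => ?_) 11 fun i hi => by rw [P.el_single hi]; exact h i hi
    rw [P.el_xor, show g * (P.el x * P.el y) * g⁻¹ = (g * P.el x * g⁻¹) * (g * P.el y * g⁻¹) by group]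
    exact mul_mem hx hy
  let f : P.Asub → P.Asub := fun a => ⟨g * a * g⁻¹, by
    obtain ⟨y, hy, e⟩ := a.2
    rw [← e]; exact hall y (by simpa using hy)⟩
  have hf : Function.Injective f := fun a b e => by
    have e' : g * (a : G) * g⁻¹ = g * b * g⁻¹ := congrArg Subtype.val e
    exact Subtype.ext (mul_left_cancel (mul_right_cancel e'))
  refine Subgroup.mem_normalizer_iff.2 fun x => ⟨fun hx => (f ⟨x, hx⟩).2, fun hx => ?_⟩
  obtain ⟨a, ha⟩ := Finite.injective_iff_surjective.1 hf ⟨_, hx⟩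
  have e' : g * (a : G) * g⁻¹ = g * x * g⁻¹ := congrArg Subtype.val ha
  rw [← mul_left_cancel (mul_right_cancel e')]
  exact a.2

/-- The permutation belongs to the element. -/
def Rel (g : G) (σ : Equiv.Perm GolayPt) : Prop :=
  ∀ y < 2048, ∀ y' < 2048, g * P.el y * g⁻¹ = P.el y' → ∃ b, pw24 y' = act σ (pw24 y) + ones b

variable {P}

theorem rel_unique {g : G} (hg : g ∈ Subgroup.normalizer (P.Asub : Set G)) {σ τ : Equiv.Perm GolayPt}
    (h : P.Rel g σ) (h' : P.Rel g τ) : σ = τ := by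
  refine perm_unique fun y hy => ?_
  obtain ⟨y', hy', e⟩ := (Subgroup.mem_normalizer_iff.1 hg _).1 (P.el_mem hy)
  obtain ⟨b, hb⟩ := h y hy y' hy' e.symm
  obtain ⟨b', hb'⟩ := h' y hy y' hy' e.symm
  refine ⟨b' + b, ?_⟩
  rw [← ones_add, ← add_assoc, ← hb', hb, add_assoc, ZModModule.add_self, add_zero]

theorem exists_rel (hs : P.Std) {g : G} (hg : g ∈ Subgroup.normalizer (P.Asub : Set G)) :
    ∃ σ ∈ M24, P.Rel g σ := by
  classical
  have himg : ∀ y : Fin 2048, ∃ y' : Fin 2048, g * P.el y * g⁻¹ = P.el y' := fun y => by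
    obtain ⟨y', hy', e⟩ := (Subgroup.mem_normalizer_iff.1 hg _).1 (P.el_mem y.2)
    exact ⟨⟨y', hy'⟩, e.symm⟩
  choose f hf using himg
  have finj : Function.Injective f := fun a b e => by
    have h := hf a
    rw [e, ← hf b] at h
    exact Fin.ext (P.el_inj a.2 b.2 (mul_left_cancel (mul_right_cancel h)))
  have fxor : ∀ (a b c : Fin 2048), (c : ℕ) = (a : ℕ) ^^^ b → (f c : ℕ) = (f a : ℕ) ^^^ f b := by
    intro a b c hc
    refine P.el_inj (f c).2 (Nat.xor_lt_two_pow (n := 11) (f a).2 (f b).2) ?_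
    rw [← hf c, hc, P.el_xor, P.el_xor, ← hf a, ← hf b]
    group
  let e : Fin 2048 × ZMod 2 ≃ ↥golayCode := Equiv.ofBijective phi phi_bij
  let f' : Fin 2048 × ZMod 2 → Fin 2048 × ZMod 2 := fun p => (f p.1, p.2)
  let X : ↥golayCode → ↥golayCode := fun c => phi (f' (e.symm c))
  have hXphi : ∀ p, X (phi p) = phi (f' p) := fun p => by
    show phi (f' (e.symm (e p))) = _
    rw [e.symm_apply_apply]
  have hadd : ∀ c d, X (c + d) = X c + X d := by
    intro c d
    obtain ⟨⟨a, s⟩, rfl⟩ := phi_bij.2 c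
    obtain ⟨⟨b, t⟩, rfl⟩ := phi_bij.2 d
    let c' : Fin 2048 := ⟨a ^^^ b, Nat.xor_lt_two_pow (n := 11) a.2 b.2⟩
    have hsum : phi (a, s) + phi (b, t) = phi (c', s + t) := Subtype.ext (by
      show pw24 a + ones s + (pw24 b + ones t) = pw24 (a ^^^ b) + ones (s + t)
      rw [pw24_xor, ← ones_add]; abel)
    rw [hsum, hXphi, hXphi, hXphi]
    refine Subtype.ext ?_
    show pw24 (f c') + ones (s + t) = pw24 (f a) + ones s + (pw24 (f b) + ones t)
    rw [fxor a b c' rfl, pw24_xor, ← ones_add]; abel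
  have hXbij : Function.Bijective X := by
    refine (phi_bij.comp ((Finite.injective_iff_bijective).1 ?_)).comp e.symm.bijective
    intro p q h
    simp only [f', Prod.mk.injEq] at h
    exact Prod.ext (finj h.1) h.2
  let x : ↥golayCode ≃ₗ[ZMod 2] ↥golayCode :=
    LinearEquiv.ofBijective (AddMonoidHom.toZModLinearMap 2 (AddMonoidHom.mk' X hadd)) hXbij
  have hx : ∀ c, x c = X c := fun _ => rfl
  let z0 : Fin 2048 := ⟨0, by norm_num⟩
  have f0 : f z0 = z0 := Fin.ext (P.el_inj (f z0).2 (by norm_num) (by rw [← hf]; simp [z0, P.el_zero]))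
  have p0w : pw24 0 = 0 := by rw [pw24, show psi 0 = 0 by decide +kernel, word_zero]
  have h1 : x ⟨1, GolayModule.one_mem⟩ = ⟨1, GolayModule.one_mem⟩ := by
    have hone : phi (z0, 1) = ⟨1, GolayModule.one_mem⟩ := Subtype.ext (by
      show pw24 0 + ones 1 = 1
      rw [p0w, zero_add]; rfl)
    rw [← hone, hx, hXphi]
    show phi (f z0, 1) = _
    rw [f0]
  have hwz : ∀ y : Fin 2048, popcount (psi (f y)) = popcount (psi y) ∨
      popcount (psi (f y)) + popcount (psi y) = 24 := by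
    intro y
    by_cases hy : (y : ℕ) = 0
    · rw [show y = z0 from Fin.ext hy, f0]; exact Or.inl rfl
    · have hfy : (f y : ℕ) ≠ 0 := fun h => hy (by
        have := finj (a₁ := y) (a₂ := z0) (by rw [f0]; exact Fin.ext h)
        rw [this])
      have hiff : wz y = true ↔ wz (f y) = true := by
        rw [← classes hs y.2 hy, ← classes hs (f y).2 hfy]
        have hc : IsConj (P.el y) (P.el (f y)) := isConj_iff.2 ⟨g, hf y⟩
        exact ⟨fun h => h.trans hc, fun h => h.trans hc.symm⟩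
      simp only [wz, Bool.or_eq_true, beq_iff_eq] at hiff
      have s1 := (psi_spec y.2).2
      have s2 := (psi_spec (f y).2).2
      omega
  have hone' : ∀ w : GolayPt → ZMod 2, (support₂ (w + ones 1)).card = 24 - (support₂ w).card := by
    intro w
    have := card_add_ones w
    omega
  have hle : ∀ y < 2048, popcount (psi y) ≤ 24 := fun y _ => by
    rw [← card_pw24]
    exact (Finset.card_le_univ _).trans_eq (by decide +kernel)
  have hwt : ∀ c : ↥golayCode, (support₂ ((x c : ↥golayCode) : GolayPt → ZMod 2)).card =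
        (support₂ (c : GolayPt → ZMod 2)).card ∨
      (support₂ ((x c : ↥golayCode) : GolayPt → ZMod 2)).card + (support₂ (c : GolayPt → ZMod 2)).card = 24 := by
    intro c
    obtain ⟨⟨a, s⟩, rfl⟩ := phi_bij.2 c
    rw [hx, hXphi]
    show (support₂ (pw24 (f a) + ones s)).card = (support₂ (pw24 a + ones s)).card ∨ _
    show _ ∨ (support₂ (pw24 (f a) + ones s)).card + (support₂ (pw24 a + ones s)).card = 24
    have := hwz a
    have := hle a a.2
    have := hle (f a) (f a).2
    rcases z2 s with rfl | rfl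
    · have e0 : ∀ w : GolayPt → ZMod 2, w + ones 0 = w := fun w => add_zero w
      rw [e0, e0, card_pw24, card_pw24]
      omega
    · rw [hone', hone', card_pw24, card_pw24]
      omega
  obtain ⟨σ, hσ, hσc⟩ := exists_perm_of_classes x h1 hwt
  refine ⟨σ, hσ, fun y hy y' hy' e => ?_⟩
  have hfy : y' = f ⟨y, hy⟩ := P.el_inj hy' (f ⟨y, hy⟩).2 (by rw [← e]; exact hf ⟨y, hy⟩)
  have hph : ((phi (⟨y, hy⟩, 0) : ↥golayCode) : GolayPt → ZMod 2) = pw24 y := add_zero _
  have hc := hσc (phi (⟨y, hy⟩, 0))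
  rw [hx, hXphi, hph] at hc
  have hfv : ((phi (f' (⟨y, hy⟩, 0)) : ↥golayCode) : GolayPt → ZMod 2) = pw24 y' := by
    rw [hfy]; exact add_zero _
  rw [hfv] at hc
  rcases hc with hc | hc
  · exact ⟨0, hc.trans (add_zero _).symm⟩
  · exact ⟨1, hc⟩

/-- The map to M24. -/
theorem exists_hom (hs : P.Std) : ∃ φ : ↥(Subgroup.normalizer (P.Asub : Set G)) →* ↥M24,
    φ.ker = P.Asub.subgroupOf (Subgroup.normalizer (P.Asub : Set G)) ∧
    ∀ n : ↥(Subgroup.normalizer (P.Asub : Set G)), P.Rel (n : G) (φ n : Equiv.Perm GolayPt) := by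
  choose σ hσ hrel using fun n : ↥(Subgroup.normalizer (P.Asub : Set G)) => exists_rel hs n.2
  have hmul : ∀ m n, σ (m * n) = σ m * σ n := by
    intro m n
    refine rel_unique (m * n).2 (hrel (m * n)) fun y hy y' hy' e => ?_
    obtain ⟨y1, hy1, e1⟩ := (Subgroup.mem_normalizer_iff.1 n.2 _).1 (P.el_mem hy)
    obtain ⟨b1, hb1⟩ := hrel n y hy y1 hy1 e1.symm
    obtain ⟨b2, hb2⟩ := hrel m y1 hy1 y' hy' (by
      rw [e1, ← e, Subgroup.coe_mul]; group)
    refine ⟨b1 + b2, ?_⟩
    rw [hb2, hb1, act_add, act_ones, act_mul, add_assoc, ones_add]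
  refine ⟨MonoidHom.mk' (fun n => ⟨σ n, hσ n⟩) (fun m n => Subtype.ext (hmul m n)), ?_, hrel⟩
  ext n
  rw [MonoidHom.mem_ker, Subgroup.mem_subgroupOf]
  refine ⟨fun h => ?_, fun h => ?_⟩
  · have hn : σ n = 1 := congrArg Subtype.val h
    refine P.mem_of_comm_low fun i hi => ?_
    have hy : 2 ^ i < 2048 := Nat.pow_lt_pow_right (n := 11) (a := 2) (by norm_num) (by omega)
    obtain ⟨y', hy', e⟩ := (Subgroup.mem_normalizer_iff.1 n.2 _).1 (P.el_mem hy)
    obtain ⟨b, hb⟩ := hrel n _ hy y' hy' e.symm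
    rw [hn, act_one] at hb
    obtain ⟨rfl, -⟩ := pw24_inj hy' hy hb
    rw [P.el_single (by omega)] at e
    exact mul_inv_eq_iff_eq_mul.mp e.symm
  · refine Subtype.ext (rel_unique n.2 (hrel n) fun y hy y' hy' e => ⟨0, ?_⟩)
    rw [P.Asub_comm h (P.el_mem hy), mul_inv_cancel_right] at e
    rw [P.el_inj hy hy' e]
    exact (add_zero _).symm

end Pre

end Cfsg.Agent.CoOneA
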