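/-
The map to M24 is onto.

* `exists_move` : elements of the normaliser outside the radical
* `surj` : surjectivity
-/
import Cfsg.Agent.Lib.CoOneA.Normal
import Cfsg.Agent.Lib.Golay.OctadStab
import Cfsg.Agent.Lib.Golay.Mathieu

set_option autoImplicit false
set_option maxRecDepth 100000
open scoped commutatorElement Pointwise

namespace Cfsg.Agent.CoOneA

open Cfsg Cfsg.Agent.CoType Cfsg.Agent.Orth Cfsg.Agent.LargeExtraspecial Cfsg.Agent.LargeExtraspecial.Cfg
open QuadraticMap (polar)
open Cfsg.Agent.Golay (popcount word word_xor isCode validPerm imgMask toPerm isAut validPerm_of_isAut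
  toPerm_mem_M24 pts support₂_word card_pts fn idx idx_toPerm idx_lt mem_pts octadFix mem_octadFix
  natCard_octadFix conj_mem_octadFix pts_mem_octads enc isCode_iff enc_mod pts_imgMask mem_octads_iff
  eq_of_support₂_eq)
open Cfsg.Agent.GolayModule (word_imgMask word_perm)

/-- The permutations of the eight generators. -/
def permC (j : ℕ) : ℕ :=
  [0xbd8832ca304392c385af58a75a1940, 0x2ad949a923799b5b4a203bae480828,
    0xbd933a4a303b88c41aab7a86d28440, 0xbd90114a30238ec48d75694cf54e80,
    0xbd8ad24a3013a8c52c660a2b34bce0, 0x801349b9977c9b141aab3a86428836,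
    0x745149c2d27dda048d75394c45082c, 0x648b49da11781b752c663a2a44882e].getD (j % 8) 0

/-- The permutations of the orbit certificate with their octads. -/
def fixC : List (ℕ × ℕ) :=
  [(0x22eb47246a04da2b4248398b78b02f, 0x3021e2), (0x745149c2d27dda048d75394c45082c, 0x18a096),
    (0xbd9ea34a30ab96c6d0e44cc4809460, 0xc75001), (0x452b694d667b5ca8b1373c0a018824, 0x2082ae)]

/-- The octad of an element. -/
def octOK (y o : ℕ) : Bool :=
  popcount o == 8 && isCode o && (o == psi y || o == psi y ^^^ 16777215)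

theorem oct_four : (octOK 1 0xc75001 && octOK 2 0x18a096 && octOK 6 0x3021e2 && octOK 10 0x2082ae) = true := by
  decide +kernel

theorem permC_ok : ∀ j < 8, isAut (permC j) = true ∧ ∀ i < 11,
    imgMask (permC j) (psi (2 ^ i)) ^^^ psi (lin (tab j) (2 ^ i)) = 0 ∨
      imgMask (permC j) (psi (2 ^ i)) ^^^ psi (lin (tab j) (2 ^ i)) = 16777215 := by
  decide +kernel

/-- The generators of the small group. -/
def qIdx (i : ℕ) : ℕ := [0, 2, 3, 4].getD i 0

/-- The action of a product. -/
def ak (k p : ℕ) : ℕ :=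
  let a (i x : ℕ) := if k.testBit i then fn (permC (qIdx i)) x else x
  a 0 (a 1 (a 2 (a 3 p)))

theorem ak_ok : (∀ k < 16, ∀ p < 24, Nat.testBit 0xc75001 p = true → ak k p = p) ∧
    ∀ k < 16, ∀ k' < 16, k ≠ k' → ∃ p < 24, ak k p ≠ ak k' p := by
  constructor <;> decide +kernel

theorem fixC_ok : ∀ x ∈ fixC, isAut x.1 = true ∧
    ∀ p < 24, Nat.testBit x.2 p = true → fn x.1 p = p := by
  decide +kernel

/-- The steps of the orbit of octads. -/
def osteps : ℕ :=
  0x6a0b910c0298a0028d1a270106cd110c4417426223888180eaa0c6870a9c099129440ca600a93ed0e80f488865a81b68128a7903319ccc910c871132505ed1181860480b04231a68699a2ce8b1d24f4920a80250c60f181c60049794cb905f80840b10217460ccd422a514a61c880c49095848212060504a95d42d0d416b501800a243690121e3898842e3a829c32b20822a5b4ca932964a121b486801f04c9297a05802bf13581d222c88a1188460834e0d183405a31688416105016064104d709920149086826a0921251304c7631d10564150c1394a6528602d80a60268180e8c4a912a207681d01230484290a61c7b661580cb032140d4c1081f207881c316552d41380c1866e19808520e3419844c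631a022084a3138c46310869641990630a3c28b20048992254b1aa42a902282818ec06782380b11be9230ce98136044b1a2c64ba088eb6030cb832d30a320d062c18a06229cb803848a12244882f052421891893188c182e21d8071a0c6806c04602180460018e316bc5ab168832504a48aee304a6d29a080093224c53014c013174c541120444433881a204a88706641882d512184851b854e58c5e3158c51a451d0c74091808472114844789de267894a865000c0f161858423188c5995e654960e5825a0d6815a002c03e08c0730190ce4334021442d108200e93fa4f693c8a2883a20e4c0bba29b316cc230b092022b08a822838251a6506d0912658994b54d409502004e013210f84350413209592564041210450c1350cd4252c055cc0e80eb03a0d0e114c450258c960d14b45101cc07111c447041a9068246c91a05ec17a05dc17605d209166499916641391a15e43290c4066201805d017241d907007b01e807811ac469144851102c93534d4535091400c703140c4959e5669595d17548e613984088222040e303880e02888a212883a82ea00b072c148252093843e10a62e98b662cb0a6c284c29308208c8212081a1b6869a19e09ce2189ae26a89a018e063418c052f48bd2249803848e10481d2050e483906985203480608382003060c14304cc0f30163a98e963a310f126424c2b2caca2b21902640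23038c01013404624389062408001027b25ac95b252690039c886090c2407109c41981a6059810ac32b08ac00d9c365009644b9126448530f084371cdc637108528e1e38580160cf8337023c08b0200ab82ac70edc382a2ca8a2a2560f583560cc38f0e2c3828d3a344062453d14c940a50106c81b1544d51254400da036453b14ea489d30b4c1405d014241d5ca57255c804bc12c43650d243450d0224c892224401000cc03200c2405929945b5165458160911344451103608517145851482da0b534938c2e301141ac8eb21ac82c63b186c6009ac26ac82f20ac82020e6929a49132c4c9132221288462101a4cb272c9490224043430d0434032bccad32b234f8d3634ce00f802e000c033008c0100508d323488d08416c02b0023438d06340158c56215861c38704817205881410d9c237085c200bac2ea0ba19666597080149c52614904b312c549f527549c821e086821508f423508c425d094504d41150405e3178a183860a1810244090a58e961a580a0a592964928b4258a83c04101015720c4c3110c42d03b4088a322848a049fac26b096c24854e1518540d033408d00904a411904134a4d24867520d48152000f603d013604d51c247051c0c24e60a98266083dac21f0873502d402882a20421a0860863920a481c04c70f1c391524545150021c08420c070bcb2b2c922988a5229371bc10f041020c0820a3428cc05f0160a282890a208e32388502140483620d478bd507540e1cf872001c004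

/-- The octads reached. -/
def oreach : ℕ → Option ℕ
  | 0 => some (1 <<< (0xc75001 % 4096))
  | n + 1 =>
    match oreach n with
    | none => none
    | some s =>
      let e := (osteps >>> (14 * n)) &&& 16383
      let m := imgMask ((fixC.getD (e % 4) (0, 0)).1) (enc (e / 4))
      if s.testBit (e / 4) && isCode m then some (s ||| 1 <<< (m % 4096)) else none

/-- The octads among the first `2 ^ 12` words. -/
def octSet : ℕ := (List.range 4096).foldl (fun s x => bif popcount (enc x) == 8 then s ||| 1 <<< x else s) 0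

theorem oreach_all : oreach 758 = some octSet := by decide +kernel

theorem testBit_octSet {x : ℕ} (hx : x < 4096) (h8 : popcount (enc x) = 8) :
    octSet.testBit x = true := by
  have key : ∀ (l : List ℕ) (s : ℕ), (s.testBit x = true ∨ x ∈ l) →
      (l.foldl (fun s x => bif popcount (enc x) == 8 then s ||| 1 <<< x else s) s).testBit x = true := by
    intro l
    induction l with
    | nil => intro s h; simpa using h
    | cons a l ih =>
      intro s h
      refine ih _ ?_
      rcases h with h | h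
      · left
        by_cases hc : popcount (enc a) = 8
        · simp [hc, Nat.testBit_or, h]
        · simp only []
          rw [show (popcount (enc a) == 8) = false from beq_eq_false_iff_ne.2 hc]
          exact h
      · rcases List.mem_cons.1 h with rfl | h
        · left; simp [h8, Nat.testBit_or, Nat.one_shiftLeft, Nat.testBit_two_pow]
        · exact Or.inr h
  exact key _ 0 (Or.inr (List.mem_range.2 hx))

theorem act_ones_card {σ : Equiv.Perm GolayPt} {o o' : ℕ} {b : ZMod 2} (h : popcount o = 8)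
    (h' : popcount o' = 8) (e : word o' = act σ (word o) + ones b) : σ • pts o = pts o' := by
  have hc : (support₂ (act σ (word o))).card = 8 := by
    unfold act; rw [word_perm, Finset.card_smul_finset, support₂_word, card_pts, h]
  rcases z2 b with rfl | rfl
  · rw [← support₂_word o', e, show act σ (word o) + ones 0 = act σ (word o) from add_zero _]
    unfold act; rw [word_perm, support₂_word]
  · exfalso
    have hk := card_add_ones (act σ (word o))
    rw [← e, support₂_word, card_pts, h', hc] at hk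
    omega

theorem octOK_spec {y o : ℕ} (h : octOK y o = true) : popcount o = 8 ∧ pts o ∈ octads ∧
    ∃ b, word o = pw24 y + ones b := by
  simp only [octOK, Bool.and_eq_true, Bool.or_eq_true, beq_iff_eq] at h
  obtain ⟨⟨h8, hc⟩, h⟩ := h
  refine ⟨h8, pts_mem_octads (by simp [h8, hc]), ?_⟩
  rcases h with h | h
  · exact ⟨0, by rw [h]; exact (add_zero _).symm⟩
  · refine ⟨1, ?_⟩
    rw [h, word_xor]
    exact congrArg (pw24 y + ·) Golay.one_eq.symm

/-! ### Elements moving `v` -/

/-- The move of `v0` by a singular vector of `W`. -/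
noncomputable def mv (x : U6) : IsoGrp qm := refl qm (v0 + p0) * refl qm (v0 + p0 + io x)

theorem qm_vp (x : U6) (hx : qU x = 0) : qm (v0 + p0 + io x) = 1 := by
  rw [qm_eq, cv_add, cv_add, cp_add, cp_add, pu_add, pu_add, cv_v0, cv_p0, cv_io, cp_v0, cp_p0,
    cp_io, pu_v0, pu_p0, pu_io]
  simp [hx]

theorem qm_vp0 : qm (v0 + p0) = 1 := by
  have := qm_vp 0 qU_zero
  rwa [io_zero, add_zero] at this

theorem mv_ap {x : U6} (hx : InW x) {t : V8} (ht : cp t = 0) (hW : InW (pu t)) :
    ap (mv x) t = t + cv t • io x := by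
  have hb : bU x (pu t) = 0 := bU_inW _ _ hx hW
  have cvs : ∀ (c : ZMod 2) (a : V8), cv (c • a) = c * cv a := fun _ _ => rfl
  have cps : ∀ (c : ZMod 2) (a : V8), cp (c • a) = c * cp a := fun _ _ => rfl
  have h1 : ap (refl qm (v0 + p0 + io x)) t = t + cv t • (v0 + p0 + io x) := by
    rw [refl_ap, qm_vp x (qU_inW _ hx), inv_one, one_mul, polar_eq, sub_eq_add_neg,
      ZModModule.neg_eq_self]
    congr 1
    simp [cv_add, cp_add, pu_add, cv_v0, cv_p0, cv_io, cp_v0, cp_p0, cp_io, pu_v0, pu_p0, pu_io, ht,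
      hb]
  have h2 : polar ⇑qm (v0 + p0) (t + cv t • (v0 + p0 + io x)) = cv t := by
    rw [polar_eq]
    simp only [cv_add, cp_add, pu_add, cvs, cps, cv_v0, cv_p0, cv_io, cp_v0, cp_p0, cp_io, pu_v0,
      pu_p0, add_zero, zero_add, mul_one, one_mul, bU_zero_left, ht]
    exact (by decide : ∀ c : ZMod 2, c + (c + c) = c) (cv t)
  rw [mv, ap_mul, h1, refl_ap, qm_vp0, inv_one, one_mul, h2, sub_eq_add_neg,
    ZModModule.neg_eq_self, smul_add, add_assoc, add_assoc]
  congr 1
  rw [add_comm (cv t • io x), ← add_assoc, ZModModule.add_self, zero_add]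

variable {G : Type*} [Group G] {F : Fr G} [Finite G]

namespace Pre

variable (P : Pre F)

/-- The elements of the radical over `W`. -/
def LowP (q : G) : Prop := q ∈ A F.Q F.v ∧ InW (F.κ q)

theorem low_el {q : G} (h : LowP (F := F) q) : ∃ y < 32, P.el y = q := by
  obtain ⟨hA, hW⟩ := h
  have hq : ∀ i < 5, q * P.gen i = P.gen i * q := fun i hi => by
    obtain ⟨s', t', hc, h1, h2⟩ := P.gen_crd (i := i) (by omega)
    exact crd_commW (crd_A hA) hc hW (by decide) h1 h2
  obtain ⟨y, hy, e⟩ := P.mem_of_comm_low hq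
  refine ⟨y, ?_, e⟩
  by_contra h32
  exact P.not_Q hy h32 (e ▸ (mem_A.mp hA).1)

theorem el_low {y : ℕ} (hy : y < 32) : LowP (F := F) (P.el y) := by
  obtain ⟨x, hx, e, -⟩ := P.el_split y
  have h8 : ∀ y < 32, bits3 y 8 = 0 := by decide +kernel
  rw [h8 y hy, P.kf_zero, mul_one] at e
  have hA : P.el y ∈ A F.Q F.v := mem_A.mpr ⟨el_Q P hy, (F.mem_D.1 (P.el_D y)).2⟩
  refine ⟨hA, ?_⟩
  rw [← e] at hx
  rw [(crd_uniq (crd_A hA) hx).1]
  exact inW_evn _

/-- An element preserving the elements of the radical over `W` normalises the subgroup. -/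
theorem norm_of_low {g : G} (hlow : ∀ q, LowP (F := F) q → LowP (F := F) (g * q * g⁻¹)) :
    g ∈ Subgroup.normalizer (P.Asub : Set G) := by
  have hf : ∀ y : Fin 32, ∃ y' : Fin 32, g * P.el y * g⁻¹ = P.el y' := fun y => by
    obtain ⟨y', hy', e⟩ := P.low_el (hlow _ (P.el_low y.2))
    exact ⟨⟨y', hy'⟩, e.symm⟩
  choose f hf using hf
  have finj : Function.Injective f := fun a b e => by
    have h := hf a
    rw [e, ← hf b] at h
    exact Fin.ext (P.el_inj (by omega) (by omega) (mul_left_cancel (mul_right_cancel h)))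
  refine P.mem_norm fun i hi => P.mem_of_comm_low fun k hk => ?_
  have hk32 : 2 ^ k < 32 := Nat.pow_lt_pow_right (n := 5) (a := 2) (by norm_num) hk
  obtain ⟨y, hy⟩ := (Finite.injective_iff_surjective.1 finj) ⟨2 ^ k, hk32⟩
  have e := hf y
  rw [hy, P.el_single (by omega)] at e
  rw [← e, show g * P.gen i * g⁻¹ * (g * P.el y * g⁻¹) = g * (P.gen i * P.el y) * g⁻¹ by group,
    P.Asub_comm (P.gen_mem hi) (P.el_mem (by omega))]
  group

/-- An element of the normaliser moving `v` by a vector of `W`. -/
theorem exists_move (x : U6) (hx : InW x) : ∃ g ∈ Subgroup.normalizer (P.Asub : Set G),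
    g * F.z * g⁻¹ = F.z ∧ g * F.v * g⁻¹ ∈ A F.Q F.v ∧ cv (F.T.c (g * F.v * g⁻¹)) = 1 ∧
      F.κ (g * F.v * g⁻¹) = x := by
  obtain ⟨g, hg, hgρ⟩ := F.T.ρ_surj (mv x) (refl_mul_refl_mem (by rw [qm_vp0]; exact one_ne_zero)
    (by rw [qm_vp x (qU_inW _ hx)]; exact one_ne_zero))
  have hgz : g * F.z * g⁻¹ = F.z := mul_inv_eq_iff_eq_mul.mpr hg
  have himg : ∀ q, LowP (F := F) q → F.T.c (g * q * g⁻¹) = F.T.c q + cv (F.T.c q) • io x := by
    intro q hq
    rw [F.T.ρ_conj g hg q (mem_A.mp hq.1).1, hgρ, mv_ap hx (F.mem_A_iff.1 hq.1).2 hq.2]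
  have hlow : ∀ q, LowP (F := F) q → LowP (F := F) (g * q * g⁻¹) := by
    intro q hq
    have e := himg q hq
    refine ⟨F.mem_A_iff.2 ⟨F.T.data.norm g hg q (mem_A.mp hq.1).1, ?_⟩, ?_⟩
    · rw [e, cp_add, (F.mem_A_iff.1 hq.1).2, zero_add]
      rcases z2 (cv (F.T.c q)) with k | k <;> rw [k]
      · rw [zero_smul]; rfl
      · rw [one_smul, cp_io]
    · rw [Fr.κ, e, pu_add, pu_smul, pu_io]
      have : ∀ (c : ZMod 2) (a b : U6), InW a → InW b → InW (a + c • b) := by
        rintro c a b ⟨a1, a3, a5⟩ ⟨b1, b3, b5⟩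
        simp [InW, a1, a3, a5, b1, b3, b5]
      exact this _ _ _ hq.2 hx
  refine ⟨g, P.norm_of_low hlow, hgz, ?_⟩
  have hv : LowP (F := F) F.v := by
    have h := P.el_low (y := 2 ^ 1) (by norm_num)
    rwa [P.el_single (by norm_num)] at h
  have e := himg _ hv
  rw [F.cv, cv_v0, one_smul] at e
  refine ⟨(hlow _ hv).1, ?_, ?_⟩
  · rw [e, cv_add, cv_v0, cv_io, add_zero]
  · rw [Fr.κ, e, pu_add, pu_v0, pu_io, zero_add]

variable {P}

theorem cv_of_fix_p {y : ℕ} (hy : y < 32) (h : lin imgP y = y) : cv (F.T.c (P.el y)) = 0 := by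
  have hpc : ⁅P.S.p, P.el y⁆ = 1 := by
    rw [commutatorElement_def, P.p_conj y (by omega), h, mul_inv_cancel]
  rw [F.T.comm_Q P.S.p_mem (el_Q P hy), P.S.p_c, polar_eq, cv_p0, cp_p0, pu_p0, bU_zero_left] at hpc
  rcases z2 (cv (F.T.c (P.el y))) with k | k
  · exact k
  · rw [k] at hpc; simp at hpc; exact absurd hpc F.z_ne

/-- An element of the normaliser with the given effect on `v`. -/
theorem exists_move_el (i : ℕ) (hi : i = 0 ∨ i = 1) :
    ∃ g ∈ Subgroup.normalizer (P.Asub : Set G), g * P.el 2 * g⁻¹ = P.el (2 + 4 * 2 ^ i) := by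
  have hiW : InW (evn (un ⟨i, by omega⟩)) := inW_evn _
  obtain ⟨g, hgN, -, hA, hcv, hκ⟩ := P.exists_move _ hiW
  obtain ⟨y, hy, e⟩ := P.low_el (q := g * F.v * g⁻¹) ⟨hA, by rw [hκ]; exact hiW⟩
  have hv2 : P.el 2 = F.v := P.el_single (i := 1) (by norm_num)
  have hbits : bits3 y 2 = un ⟨i, by omega⟩ := by
    obtain ⟨x, hx, ey, -⟩ := P.el_split y
    have h8 : ∀ y < 32, bits3 y 8 = 0 := by decide +kernel
    rw [h8 y hy, P.kf_zero, mul_one] at ey
    rw [← ey, e] at hx
    have := (crd_uniq (crd_A hA) hx).1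
    rw [hκ] at this
    exact ((by decide +kernel : ∀ a b : V3, evn a = evn b → a = b) _ _ this).symm
  have hne : lin imgP y ≠ y := fun h => by
    have := cv_of_fix_p (P := P) hy h
    rw [e, hcv] at this
    exact one_ne_zero this
  have hpN : P.S.p ∈ Subgroup.normalizer (P.Asub : Set G) :=
    P.mem_norm fun i hi => by rw [P.p_tab i hi]; exact P.el_mem (tab_lt (j := 0) (by norm_num) _)
  have key : ∀ i : Fin 3, ∀ y < 32, bits3 y 2 = un i → lin imgP y ≠ y →
      y = 2 + 4 * 2 ^ i.val ∨ lin imgP y = 2 + 4 * 2 ^ i.val := by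
    decide +kernel
  rcases key _ y hy hbits hne with h | h
  · exact ⟨g, hgN, by rw [hv2, ← e, h]⟩
  · refine ⟨P.S.p * g, mul_mem hpN hgN, ?_⟩
    rw [← h, ← P.p_conj y (by omega), e, hv2]
    group

/-- The map to M24 is onto. -/
theorem surj (hs : P.Std) (φ : ↥(Subgroup.normalizer (P.Asub : Set G)) →* ↥M24)
    (hφ : ∀ n : ↥(Subgroup.normalizer (P.Asub : Set G)), P.Rel (n : G) (φ n : Equiv.Perm GolayPt)) :
    Function.Surjective φ := by
  classical
  set R : Subgroup (Equiv.Perm GolayPt) := φ.range.map M24.subtype with hR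
  have hRle : R ≤ M24 := by rw [hR]; exact Subgroup.map_subtype_le _
  have hRmem : ∀ n, (φ n : Equiv.Perm GolayPt) ∈ R := fun n =>
    Subgroup.mem_map.2 ⟨φ n, MonoidHom.mem_range.2 ⟨n, rfl⟩, rfl⟩
  have hgen : ∀ j < 8, toPerm (permC j) ∈ R := by
    intro j hj
    have hN : P.gEl j ∈ Subgroup.normalizer (P.Asub : Set G) := P.mem_norm fun i hi => by
      rw [← P.el_single hi, gEl_conj hs hj (Nat.pow_lt_pow_right (n := 11) (a := 2) (by norm_num) hi)]
      exact P.el_mem (tab_lt hj _)
    have hv := validPerm_of_isAut (permC_ok j hj).1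
    have hrel : P.Rel (P.gEl j) (toPerm (permC j)) := by
      intro y hy y' hy' e
      rw [gEl_conj hs hj hy] at e
      rw [← P.el_inj (tab_lt hj y) hy' e]
      revert hy
      refine fun hy => forall_of_basis (Pr := fun y =>
        ∃ b, pw24 (lin (tab j) y) = act (toPerm (permC j)) (pw24 y) + ones b) ?_ ?_ 11 ?_ y
        (by simpa using hy)
      · refine ⟨0, ?_⟩
        rw [show lin (tab j) 0 = 0 from Golay.encAux_zero _, pw24, show psi 0 = 0 by decide +kernel,
          Golay.word_zero]
        rfl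
      · rintro x y ⟨b, hb⟩ ⟨b', hb'⟩
        refine ⟨b + b', ?_⟩
        rw [lin_xor, pw24_xor, pw24_xor, act_add, hb, hb', ← ones_add]
        abel
      · intro i hi
        have e1 : ∀ m : ℕ, word (imgMask (permC j) m) = act (toPerm (permC j)) (word m) :=
          word_imgMask hv
        rcases (permC_ok j hj).2 i hi with h | h
        · refine ⟨0, ?_⟩
          rw [pw24, ← Nat.xor_eq_zero_iff.mp h, e1]
          exact (add_zero _).symm
        · refine ⟨1, ?_⟩
          have h' : psi (lin (tab j) (2 ^ i)) = imgMask (permC j) (psi (2 ^ i)) ^^^ 16777215 := by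
            rw [← h, ← Nat.xor_assoc, Nat.xor_self, Nat.zero_xor]
          rw [pw24, h', word_xor, e1]
          exact congrArg (act _ _ + ·) Golay.one_eq.symm
    have := rel_unique hN (hφ ⟨_, hN⟩) hrel
    rw [← this]
    exact hRmem _
  have hoct : ∀ {g : G}, g ∈ Subgroup.normalizer (P.Asub : Set G) → ∀ y < 2048, ∀ y' < 2048,
      g * P.el y * g⁻¹ = P.el y' → ∀ o o', octOK y o = true → octOK y' o' = true →
      ∃ σ ∈ R, σ • pts o = pts o' := by
    intro g hg y hy y' hy' e o o' ho ho'
    refine ⟨_, hRmem ⟨g, hg⟩, ?_⟩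
    obtain ⟨h8, -, b, hb⟩ := octOK_spec ho
    obtain ⟨h8', -, b', hb'⟩ := octOK_spec ho'
    obtain ⟨c, hc⟩ := hφ ⟨g, hg⟩ y hy y' hy' e
    refine act_ones_card (b := b + c + b') h8 h8' ?_
    rw [hb', hc, hb, act_add, act_ones, ← ones_add, ← ones_add]
    have : ∀ a : GolayPt → ZMod 2, a + a = 0 := fun a => ZModModule.add_self a
    abel_nf
    simp only [two_nsmul, two_zsmul, this, add_zero, zero_add]
  have hoz : pts 0xc75001 ∈ octads := by
    have := oct_four
    simp only [Bool.and_eq_true] at this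
    exact (octOK_spec this.1.1.1).2.1
  -- the fixator of the first octad
  have hz : octadFix (pts 0xc75001) ≤ R := by
    have hpk : ∀ k : ℕ, ∀ i, (if k.testBit i then toPerm (permC (qIdx i)) else 1) ∈ R := fun k i => by
      split
      · exact hgen _ ((by
          unfold qIdx
          rcases i with _ | _ | _ | _ | i <;> simp))
      · exact one_mem _
    let el16 : ℕ → Equiv.Perm GolayPt := fun k =>
      (if k.testBit 0 then toPerm (permC (qIdx 0)) else 1) *
      (if k.testBit 1 then toPerm (permC (qIdx 1)) else 1) *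
      (if k.testBit 2 then toPerm (permC (qIdx 2)) else 1) *
      (if k.testBit 3 then toPerm (permC (qIdx 3)) else 1)
    have hidx : ∀ k p, idx (el16 k p) = ak k (idx p) := by
      intro k p
      have st : ∀ (i : ℕ) (p : GolayPt), i < 4 →
          idx ((if k.testBit i then toPerm (permC (qIdx i)) else 1 : Equiv.Perm GolayPt) p) =
            if k.testBit i then fn (permC (qIdx i)) (idx p) else idx p := by
        intro i p hi
        cases k.testBit i
        · simp
        · have hv : validPerm (permC (qIdx i)) = true := by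
            interval_cases i <;> exact validPerm_of_isAut (permC_ok _ (by decide)).1
          simpa using idx_toPerm hv p
      simp only [el16, Equiv.Perm.mul_apply, ak]
      rw [st 0 _ (by norm_num), st 1 _ (by norm_num), st 2 _ (by norm_num), st 3 _ (by norm_num)]
    have hmem : ∀ k, el16 k ∈ R := fun k =>
      mul_mem (mul_mem (mul_mem (hpk k 0) (hpk k 1)) (hpk k 2)) (hpk k 3)
    have hfx : ∀ k < 16, el16 k ∈ octadFix (pts 0xc75001) := fun k hk =>
      mem_octadFix.2 ⟨hRle (hmem k), fun p hp => Golay.idx_injective (by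
        rw [hidx, ak_ok.1 k hk _ (idx_lt p) (mem_pts.1 hp)])⟩
    let f : Fin 16 → ↥(octadFix (pts 0xc75001)) := fun k => ⟨el16 k, hfx k k.2⟩
    have finj : Function.Injective f := fun a b h => by
      by_contra hne
      obtain ⟨p, hp, hne'⟩ := ak_ok.2 a a.2 b b.2 fun e => hne (Fin.ext e)
      have h' : el16 a = el16 b := congrArg Subtype.val h
      refine hne' ?_
      have := congrArg (fun σ : Equiv.Perm GolayPt => idx (σ (Golay.pt p))) h'
      simpa only [hidx, Golay.idx_pt hp] using this
    have hb := (Nat.bijective_iff_injective_and_card f).2 ⟨finj, by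
      rw [Nat.card_fin, natCard_octadFix hoz]⟩
    intro σ hσ
    obtain ⟨k, hk⟩ := hb.2 ⟨σ, hσ⟩
    rw [← show el16 k = σ from congrArg Subtype.val hk]
    exact hmem k
  have hmove : ∀ {σ : Equiv.Perm GolayPt} {o : Finset GolayPt}, σ ∈ R → octadFix o ≤ R →
      octadFix (σ • o) ≤ R := by
    intro σ o hσ ho g hg
    have := ho (conj_mem_octadFix (hRle hσ) hg)
    have h2 := mul_mem (mul_mem hσ this) (inv_mem hσ)
    rwa [show σ * (σ⁻¹ * g * σ) * σ⁻¹ = g by group] at h2
  have hfour := oct_four
  simp only [Bool.and_eq_true] at hfour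
  obtain ⟨⟨⟨o1, o2⟩, o6⟩, o10⟩ := hfour
  have hpN : P.S.p ∈ Subgroup.normalizer (P.Asub : Set G) :=
    P.mem_norm fun i hi => by rw [P.p_tab i hi]; exact P.el_mem (tab_lt (j := 0) (by norm_num) _)
  have hqN : P.S.q ∈ Subgroup.normalizer (P.Asub : Set G) :=
    P.mem_norm fun i hi => by rw [P.q_tab i hi]; exact P.el_mem (tab_lt (j := 1) (by norm_num) _)
  have hv : octadFix (pts 0x18a096) ≤ R := by
    obtain ⟨σ, hσ, e⟩ := hoct (g := P.S.p * P.S.q * P.S.p) (mul_mem (mul_mem hpN hqN) hpN)
      1 (by norm_num) 2 (by norm_num) (by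
        rw [show P.S.p * P.S.q * P.S.p * P.el 1 * (P.S.p * P.S.q * P.S.p)⁻¹ =
          P.S.p * (P.S.q * (P.S.p * P.el 1 * P.S.p⁻¹) * P.S.q⁻¹) * P.S.p⁻¹ by group,
          P.p_conj 1 (by norm_num), show lin imgP 1 = 1 by decide, P.q_conj 1 (by norm_num),
          show lin imgQ 1 = 3 by decide, P.p_conj 3 (by norm_num), show lin imgP 3 = 2 by decide])
      _ _ o1 o2
    rw [← e]
    exact hmove hσ hz
  have h6 : octadFix (pts 0x3021e2) ≤ R := by
    obtain ⟨g, hg, e⟩ := exists_move_el (P := P) 0 (Or.inl rfl)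
    obtain ⟨σ, hσ, e'⟩ := hoct hg 2 (by norm_num) 6 (by norm_num) e _ _ o2 o6
    rw [← e']
    exact hmove hσ hv
  have h10 : octadFix (pts 0x2082ae) ≤ R := by
    obtain ⟨g, hg, e⟩ := exists_move_el (P := P) 1 (Or.inr rfl)
    obtain ⟨σ, hσ, e'⟩ := hoct hg 2 (by norm_num) 10 (by norm_num) e _ _ o2 o10
    rw [← e']
    exact hmove hσ hv
  have hfix : ∀ x ∈ fixC, toPerm x.1 ∈ R := by
    intro x hx
    obtain ⟨ha, hp⟩ := fixC_ok x hx
    have hm : toPerm x.1 ∈ octadFix (pts x.2) := mem_octadFix.2 ⟨toPerm_mem_M24 ha, fun p hpp =>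
      Golay.idx_injective (by
        rw [idx_toPerm (validPerm_of_isAut ha), hp _ (idx_lt p) (mem_pts.1 hpp)])⟩
    simp only [fixC, List.mem_cons, List.not_mem_nil, or_false] at hx
    rcases hx with rfl | rfl | rfl | rfl
    exacts [h6 hm, hv hm, hz hm, h10 hm]
  -- every fixator
  have inv : ∀ n s, oreach n = some s → ∀ i, s.testBit i = true →
      octadFix (pts (enc i)) ≤ R := by
    intro n
    induction n with
    | zero =>
      intro s hs i hi
      simp only [oreach, Option.some.injEq] at hs
      subst hs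
      rw [Nat.one_shiftLeft, Nat.testBit_two_pow, decide_eq_true_eq] at hi
      subst hi
      rwa [show enc (0xc75001 % 4096) = 0xc75001 by decide +kernel]
    | succ n ih =>
      intro s hs i hi
      rw [oreach] at hs
      split at hs
      · simp at hs
      · next s' hs' =>
        simp only at hs
        split at hs
        · next hc =>
          simp only [Bool.and_eq_true] at hc
          rw [Option.some.injEq] at hs
          subst hs
          rw [Nat.testBit_or, Bool.or_eq_true, Nat.one_shiftLeft, Nat.testBit_two_pow,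
            decide_eq_true_eq] at hi
          rcases hi with hi | rfl
          · exact ih s' hs' i hi
          · set e := (osteps >>> (14 * n)) &&& 16383 with he
            have hin : fixC.getD (e % 4) (0, 0) ∈ fixC := by
              have h4 : e % 4 < fixC.length := Nat.mod_lt _ (by norm_num)
              rw [List.getD_eq_getElem fixC _ h4]
              exact List.getElem_mem h4
            set d := (fixC.getD (e % 4) (0, 0)).1 with hd
            obtain ⟨x, hx, ex⟩ := isCode_iff.1 hc.2
            rw [← ex, enc_mod hx, ex, pts_imgMask (validPerm_of_isAut (fixC_ok _ hin).1)]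
            exact hmove (hfix _ hin) (ih s' hs' _ hc.1)
        · simp at hs
  have hall : ∀ o ∈ octads, octadFix o ≤ R := by
    intro o ho
    obtain ⟨m, hm, rfl⟩ : ∃ m, (isCode m = true ∧ popcount m = 8) ∧ pts m = o := by
      obtain ⟨hs', h8⟩ := ho
      refine ⟨Golay.maskOf o, ⟨?_, ?_⟩, Golay.pts_maskOf o⟩
      · exact (Golay.pts_mem_supports_iff (Golay.maskOf_lt o)).1 (by rwa [Golay.pts_maskOf])
      · rw [Golay.popcount_maskOf, h8]
    obtain ⟨x, hx, rfl⟩ := isCode_iff.1 hm.1
    exact inv _ _ oreach_all x (testBit_octSet hx hm.2)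
  -- simplicity
  let S : Set ↥M24 := {g | ∃ o ∈ octads, (g : Equiv.Perm GolayPt) ∈ octadFix o}
  have hN : (Subgroup.closure S).Normal := ⟨fun n hn g => by
    induction hn using Subgroup.closure_induction with
    | mem x hx =>
      obtain ⟨o, ho, hxo⟩ := hx
      refine Subgroup.subset_closure ⟨(g : Equiv.Perm GolayPt) • o, Golay.smul_mem_octads g.2 ho, ?_⟩
      have h := conj_mem_octadFix (o := (g : Equiv.Perm GolayPt) • o) (inv_mem g.2)
        (g := (x : Equiv.Perm GolayPt)) (by rwa [inv_smul_smul])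
      rwa [inv_inv] at h
    | one => simp
    | mul a b _ _ ha hb =>
      rw [show g * (a * b) * g⁻¹ = (g * a * g⁻¹) * (g * b * g⁻¹) by group]; exact mul_mem ha hb
    | inv a _ ha =>
      rw [show g * a⁻¹ * g⁻¹ = (g * a * g⁻¹)⁻¹ by group]; exact inv_mem ha⟩
  haveI := Golay.isSimpleGroup_m24
  have hle : Subgroup.closure S ≤ φ.range := (Subgroup.closure_le _).2 fun g ⟨o, ho, hgo⟩ => by
    obtain ⟨g', hg', e⟩ := Subgroup.mem_map.1 (hall o ho hgo)
    rwa [← Subtype.ext e]
  rcases hN.eq_bot_or_eq_top with h | h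
  · exfalso
    have h1 : ∀ g ∈ octadFix (pts 0xc75001), g = 1 := fun g hg => by
      have : (⟨g, (mem_octadFix.1 hg).1⟩ : ↥M24) ∈ Subgroup.closure S :=
        Subgroup.subset_closure ⟨_, hoz, hg⟩
      rw [h, Subgroup.mem_bot] at this
      exact congrArg Subtype.val this
    have := natCard_octadFix hoz
    rw [(Subgroup.eq_bot_iff_forall _).2 h1, Subgroup.card_bot] at this
    omega
  · exact MonoidHom.range_eq_top.1 (top_le_iff.1 (h ▸ hle))

end Pre

end Cfsg.Agent.CoOneA
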