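/-
The two orbits of the normaliser on the subgroup of order `2^11`.

* `exists_two_orbits` : representatives
-/
import Cfsg.Agent.Lib.CoOneA.Surj

set_option autoImplicit false
set_option maxRecDepth 100000
open scoped commutatorElement Pointwise

namespace Cfsg.Agent.CoOneA

open Cfsg Cfsg.Agent.CoType
open Cfsg.Agent.Golay (popcount isCode pts pts_mem_dodecads support₂_word word allBits forall_lt_two_pow)
open Cfsg.Agent.GolayModule (word_perm)

/-- Every word is an octad, its complement or a dodecad. -/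
theorem psi_cases : allBits (fun y => y == 0 || (wz y && (octOK y (psi y) || octOK y (psi y ^^^ 16777215))) ||
    (!wz y && isCode (psi y) && popcount (psi y) == 12)) 11 0 = true := by
  decide +kernel

theorem wz_256 : wz 256 = false ∧ isCode (psi 256) = true ∧ popcount (psi 256) = 12 := by decide +kernel

theorem word_of_smul {σ : Equiv.Perm GolayPt} {o o' : ℕ} (h : σ • pts o = pts o') :
    act σ (word o) = word o' :=
  Golay.eq_of_support₂_eq (by unfold act; rw [word_perm, support₂_word, support₂_word, h])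

variable {G : Type*} [Group G] {F : Fr G} [Finite G]

namespace Pre

variable {P : Pre F}

theorem exists_two_orbits (hs : P.Std) :
    ∃ a ∈ P.Asub, ∃ b ∈ P.Asub, a ≠ 1 ∧ b ≠ 1 ∧
      (∀ n ∈ Subgroup.normalizer (P.Asub : Set G), n * a * n⁻¹ ≠ b) ∧
      ∀ c ∈ P.Asub, c ≠ 1 → ∃ n ∈ Subgroup.normalizer (P.Asub : Set G),
        n * c * n⁻¹ = a ∨ n * c * n⁻¹ = b := by
  classical
  obtain ⟨φ, -, hφ⟩ := exists_hom hs
  refine ⟨P.el 1, P.el_mem (by norm_num), P.el 256, P.el_mem (by norm_num),
    fun h => one_ne_zero (P.el_inj_zero (by norm_num) h),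
    fun h => absurd (P.el_inj_zero (y := 256) (by norm_num) h) (by norm_num), fun n _ e => ?_,
    fun c hc hc1 => ?_⟩
  · have h := (classes hs (y := 256) (by norm_num) (by norm_num)).1 (isConj_iff.2 ⟨n, by
      rw [show F.z = P.el 1 from P.z_eq]; exact e⟩)
    rw [wz_256.1] at h
    simp at h
  · obtain ⟨y, hy, rfl⟩ := P.mem_Asub.1 hc
    have hy0 : y ≠ 0 := fun h => hc1 (by rw [h, P.el_zero])
    -- reach the word with the given weight
    have reach : ∀ (t : ℕ), t < 2048 → ∀ (o o' : ℕ) (b b' : ZMod 2), word o = pw24 y + ones b →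
        word o' = pw24 t + ones b' → ∀ σ ∈ M24, σ • pts o = pts o' →
        ∃ n ∈ Subgroup.normalizer (P.Asub : Set G), n * P.el y * n⁻¹ = P.el t := by
      intro t ht o o' b b' hb hb' σ hσ e
      obtain ⟨n, hn⟩ := surj hs φ hφ ⟨σ, hσ⟩
      obtain ⟨y', hy', e'⟩ := (Subgroup.mem_normalizer_iff.1 n.2 _).1 (P.el_mem hy)
      obtain ⟨d, hd⟩ := hφ n y hy y' hy' e'.symm
      rw [hn] at hd
      have e1 := word_of_smul e
      rw [hb, hb', act_add, act_ones] at e1
      have e2 : act σ (pw24 y) = pw24 t + ones (b' + b) := by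
        rw [← ones_add, ← add_assoc, ← e1, add_assoc, ZModModule.add_self, add_zero]
      have e3 : pw24 y' = pw24 t + ones (b' + b + d) := by
        rw [← ones_add (b' + b) d, ← add_assoc, ← e2]; exact hd
      exact ⟨n, n.2, by rw [← e', (pw24_inj hy' ht e3).1]⟩
    have hcase := forall_lt_two_pow psi_cases (i := y) (by simpa using hy)
    simp only [Bool.or_eq_true, Bool.and_eq_true, beq_iff_eq, hy0, false_or] at hcase
    rcases hcase with ⟨-, ho⟩ | ⟨⟨-, hcode⟩, h12⟩
    · have h1 : octOK 1 0xc75001 = true := by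
        have := oct_four
        simp only [Bool.and_eq_true] at this
        exact this.1.1.1
      obtain ⟨-, m1, b1, e1⟩ := octOK_spec h1
      rcases ho with ho | ho <;> obtain ⟨-, m, b, e⟩ := octOK_spec ho <;>
      · obtain ⟨σ, hσ, hσe⟩ := Golay.exists_map_octad m m1
        obtain ⟨n, hn, hne⟩ := reach 1 (by norm_num) _ _ b b1 e e1 σ hσ hσe
        exact ⟨n, hn, Or.inl hne⟩
    · obtain ⟨σ, hσ, hσe⟩ := Golay.exists_map_dodecad (pts_mem_dodecads (m := psi y) (by simp [hcode, h12]))
        (pts_mem_dodecads (m := psi 256) (by simp [wz_256.2.1, wz_256.2.2]))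
      obtain ⟨n, hn, hne⟩ := reach 256 (by norm_num) _ _ 0 0 (add_zero _).symm (add_zero _).symm σ hσ hσe
      exact ⟨n, hn, Or.inr hne⟩

end Pre

end Cfsg.Agent.CoOneA
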