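/-
The normaliser splits over the subgroup of order `2^11`.

* `exists_compl` : a complement, by Gaschütz from a 2-subgroup of order 1024
-/
import Cfsg.Agent.Lib.CoOneA.Surj
import Cfsg.Agent.Lib.Solvable.Gaschutz

set_option autoImplicit false
set_option maxRecDepth 100000
open scoped commutatorElement

namespace Cfsg.Agent.CoOneA

open Cfsg Cfsg.Agent.CoType Cfsg.Agent.Orth Cfsg.Agent.LargeExtraspecial Cfsg.Agent.LargeExtraspecial.Cfg
open QuadraticMap (polar)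

/-- The maps of the eight words in the two line generators. -/
def mapsL (k : ℕ) (t : U6) : U6 :=
  [t, N1 t, N2 t, N1 (N2 t), N2 (N1 t), N1 (N2 (N1 t)), N2 (N1 (N2 t)), N1 (N2 (N1 (N2 t)))].getD k t

/-- Right multiplication by the first generator. -/
def r1 (k : ℕ) : ℕ := [1, 0, 4, 5, 2, 3, 7, 6].getD k 0
/-- Right multiplication by the second generator. -/
def r2 (k : ℕ) : ℕ := [2, 3, 0, 1, 6, 7, 4, 5].getD k 0

theorem r_ok : ∀ k < 8, r1 k < 8 ∧ r2 k < 8 ∧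
    ∀ t : U6, mapsL k (N1 t) = mapsL (r1 k) t ∧ mapsL k (N2 t) = mapsL (r2 k) t := by
  decide +kernel

theorem mapsL_inj : ∀ k k' : Fin 8, ∀ r : V3, (∀ t : U6, mapsL k (Mm r t) = mapsL k' t) →
    k = k' ∧ r = 0 := by
  decide +kernel

theorem N_inW : ∀ t : U6, InW t → InW (N1 t) ∧ InW (N2 t) := by decide +kernel

variable {G : Type*} [Group G] {F : Fr G} [Finite G]

namespace Pre

variable (P : Pre F)

/-- The six generators. -/
def es (i : ℕ) : G := [P.c 0, P.c 1, P.c 2, P.d 0, P.d 1, P.d 2].getD i 1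

/-- An element of the elementary group of order 64. -/
def ee (y : ℕ) : G := elAux P.es 6 y

theorem es_crd {i : ℕ} (hi : i < 6) : ∃ u w : V3, Crd F (P.es i) (odd u) (odd w) := by
  have h0 : odd 0 = 0 := by decide
  interval_cases i <;> simp only [es, List.getD_cons_zero, List.getD_cons_succ]
  exacts [⟨un 0, 0, h0.symm ▸ P.crd_c 0⟩, ⟨un 1, 0, h0.symm ▸ P.crd_c 1⟩,
    ⟨un 2, 0, h0.symm ▸ P.crd_c 2⟩, ⟨0, un 0, h0.symm ▸ P.crd_d 0⟩, ⟨0, un 1, h0.symm ▸ P.crd_d 1⟩,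
    ⟨0, un 2, h0.symm ▸ P.crd_d 2⟩]

theorem odd_comm {x y : G} {u w u' w' : V3} (hx : Crd F x (odd u) (odd w))
    (hy : Crd F y (odd u') (odd w')) : x * y = y * x := by
  have hb : ∀ a b : V3, bU (odd a) (odd b) = 0 := by decide +kernel
  have h := crd_conj hx hy
  simp only [bU_add_right, hb, add_zero, pw_zero, one_mul, mul_one] at h
  exact mul_inv_eq_iff_eq_mul.mp h

theorem es_comm : ∀ i < 6, ∀ j < 6, P.es i * P.es j = P.es j * P.es i := fun i hi j hj => by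
  obtain ⟨u, w, hx⟩ := P.es_crd hi
  obtain ⟨u', w', hy⟩ := P.es_crd hj
  exact odd_comm hx hy

theorem es_sq : ∀ i < 6, P.es i * P.es i = 1 := by
  intro i hi
  interval_cases i <;> simp only [es, List.getD_cons_zero, List.getD_cons_succ]
  exacts [(P.S.pair_rel (P.d_nrm 0) (P.qU_odd 0)).2.2.2.1, (P.S.pair_rel (P.d_nrm 1) (P.qU_odd 1)).2.2.2.1,
    (P.S.pair_rel (P.d_nrm 2) (P.qU_odd 2)).2.2.2.1, (P.S.pair_rel (P.d_nrm 0) (P.qU_odd 0)).2.2.1,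
    (P.S.pair_rel (P.d_nrm 1) (P.qU_odd 1)).2.2.1, (P.S.pair_rel (P.d_nrm 2) (P.qU_odd 2)).2.2.1]

theorem ee_xor (x y : ℕ) : P.ee (x ^^^ y) = P.ee x * P.ee y := elAux_xor 6 x y P.es_sq P.es_comm

theorem ee_crd (y : ℕ) : Crd F (P.ee y) (odd (bits3 y 0)) (odd (bits3 y 3)) := by
  have h := crd_mul (crd_mul (crd_mul (crd_mul (crd_mul (Pre.crd_pw (P.crd_c 0) (bz y 0))
    (Pre.crd_pw (P.crd_c 1) (bz y 1))) (Pre.crd_pw (P.crd_c 2) (bz y 2)))
    (Pre.crd_pw (P.crd_d 0) (bz y 3))) (Pre.crd_pw (P.crd_d 1) (bz y 4))) (Pre.crd_pw (P.crd_d 2) (bz y 5))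
  have e : ∀ a b c : ZMod 2, a • odd (un 0) + b • odd (un 1) + c • odd (un 2) = odd ![a, b, c] := by
    decide +kernel
  simp only [smul_zero, add_zero, zero_add] at h
  rw [e, e] at h
  simpa [ee, elAux, es, bits3, mul_assoc] using h

/-- The elementary group of order 64. -/
def E6 : Subgroup G where
  carrier := {g | ∃ y < 64, P.ee y = g}
  one_mem' := ⟨0, by norm_num, elAux_zero 6⟩
  mul_mem' := by
    rintro _ _ ⟨x, hx, rfl⟩ ⟨y, hy, rfl⟩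
    exact ⟨x ^^^ y, Nat.xor_lt_two_pow (n := 6) hx hy, P.ee_xor x y⟩
  inv_mem' := by
    rintro _ ⟨x, hx, rfl⟩
    exact ⟨x, hx, (inv_eq_of_mul_eq_one_right
      (by rw [← P.ee_xor, Nat.xor_self]; exact elAux_zero 6)).symm⟩

theorem es_mem {i : ℕ} (hi : i < 6) : P.es i ∈ P.E6 :=
  ⟨2 ^ i, Nat.pow_lt_pow_right (by norm_num) hi, elAux_single 6 i hi⟩

theorem conj_E6 {g : G} (h : ∀ i < 6, g * P.es i * g⁻¹ ∈ P.E6) {e : G} (he : e ∈ P.E6) :
    g * e * g⁻¹ ∈ P.E6 := by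
  obtain ⟨y, -, rfl⟩ := he
  exact elAux_mem (H := P.E6.comap (MulAut.conj g).toMonoidHom) 6 y fun i hi => by
    simpa [MulAut.conj_apply] using h i hi

theorem conj_E6' {g : G} (hc : ∀ m : Fin 3, g * P.c m * g⁻¹ ∈ P.E6)
    (hd : ∀ m : Fin 3, g * P.d m * g⁻¹ ∈ P.E6) : ∀ i < 6, g * P.es i * g⁻¹ ∈ P.E6 := by
  intro i hi
  interval_cases i <;> simp only [es, List.getD_cons_zero, List.getD_cons_succ]
  exacts [hc 0, hc 1, hc 2, hd 0, hd 1, hd 2]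

theorem c_E6 (m : Fin 3) : P.c m ∈ P.E6 := by
  fin_cases m
  exacts [P.es_mem (i := 0) (by norm_num), P.es_mem (i := 1) (by norm_num), P.es_mem (i := 2) (by norm_num)]

theorem d_E6 (m : Fin 3) : P.d m ∈ P.E6 := by
  fin_cases m
  exacts [P.es_mem (i := 3) (by norm_num), P.es_mem (i := 4) (by norm_num), P.es_mem (i := 5) (by norm_num)]

theorem p_conj_E6 : ∀ i < 6, P.S.p * P.es i * P.S.p⁻¹ ∈ P.E6 :=
  P.conj_E6' (fun m => by rw [P.c_fix_p]; exact P.c_E6 m) fun m => by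
    rw [(P.S.pair_rel (P.d_nrm m) (P.qU_odd m)).2.2.2.2.2.1]
    exact mul_mem (P.c_E6 m) (P.d_E6 m)

/-- A line generator normalises the elementary group. -/
theorem l_conj_E6 {l : G} (hl : l ∈ P.S.K) (h : ∀ m : Fin 3, l * P.d m * l⁻¹ ∈ P.E6) :
    ∀ i < 6, l * P.es i * l⁻¹ ∈ P.E6 :=
  P.conj_E6' (fun m => by
    have hp := P.S.p_K hl
    have e : l * P.c m * l⁻¹ = P.S.p * (l * P.d m * l⁻¹) * P.S.p⁻¹ * (l * P.d m * l⁻¹)⁻¹ := by
      show l * (P.S.p * P.d m * P.S.p⁻¹ * (P.d m)⁻¹) * l⁻¹ = _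
      conv_rhs => rw [show P.S.p * (l * P.d m * l⁻¹) * P.S.p⁻¹ =
        (P.S.p * l * P.S.p⁻¹) * (P.S.p * P.d m * P.S.p⁻¹) * (P.S.p * l * P.S.p⁻¹)⁻¹ by group, hp]
      group
    rw [e]
    exact mul_mem (P.conj_E6 P.p_conj_E6 (h m)) (inv_mem (h m))) h

theorem d_sq (m : Fin 3) : P.d m * P.d m = 1 := (P.S.pair_rel (P.d_nrm m) (P.qU_odd m)).2.2.1

theorem d_comm (i j : Fin 3) : P.d i * P.d j = P.d j * P.d i := by
  have h0 : odd 0 = 0 := by decide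
  exact odd_comm (u := 0) (u' := 0) (h0.symm ▸ P.crd_d i) (h0.symm ▸ P.crd_d j)

theorem val_fix {l : G} {e : U6} (h : Val F l e 0) (m : Fin 3) (hm : odd (un m) = e) :
    l * P.d m * l⁻¹ = P.d m := by
  have h1 := h.2 _ (P.d_nrm m).1 ((P.d_θ m).trans hm)
  rw [pw_zero, commutatorElement_eq_one_iff_mul_comm] at h1
  rw [h1, mul_inv_cancel_right]

theorem l1_conj : ∀ i < 6, P.L.l1 * P.es i * P.L.l1⁻¹ ∈ P.E6 := by
  refine P.l_conj_E6 P.L.l1_K fun m => ?_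
  have e0 : P.L.l1 * P.d 0 * P.L.l1⁻¹ = P.d 1 * P.d 0 := by
    rw [P.d_one, mul_assoc _ (P.d 0) (P.d 0), P.d_sq, mul_one]
  fin_cases m
  · show P.L.l1 * P.d 0 * P.L.l1⁻¹ ∈ P.E6
    rw [e0]; exact mul_mem (P.d_E6 1) (P.d_E6 0)
  · show P.L.l1 * P.d 1 * P.L.l1⁻¹ ∈ P.E6
    rw [P.val_fix P.L.l1_val.1 1 (by decide)]; exact P.d_E6 1
  · show P.L.l1 * P.d 2 * P.L.l1⁻¹ ∈ P.E6
    rw [P.val_fix P.L.l1_val.2 2 (by decide)]; exact P.d_E6 2

theorem l2_conj : ∀ i < 6, P.L.l2 * P.es i * P.L.l2⁻¹ ∈ P.E6 := by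
  refine P.l_conj_E6 P.L.l2_K fun m => ?_
  have e1 : P.L.l2 * P.d 1 * P.L.l2⁻¹ = P.d 2 * P.d 1 := by
    rw [P.d_two, mul_assoc _ (P.d 1) (P.d 1), P.d_sq, mul_one]
  fin_cases m
  · show P.L.l2 * P.d 0 * P.L.l2⁻¹ ∈ P.E6
    rw [P.val_fix P.L.l2_val.1 0 (by decide)]; exact P.d_E6 0
  · show P.L.l2 * P.d 1 * P.L.l2⁻¹ ∈ P.E6
    rw [e1]; exact mul_mem (P.d_E6 2) (P.d_E6 1)
  · show P.L.l2 * P.d 2 * P.L.l2⁻¹ ∈ P.E6
    rw [P.val_fix P.L.l2_val.2 2 (by decide)]; exact P.d_E6 2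

/-- The eight words. -/
def wl (k : ℕ) : G :=
  [1, P.L.l1, P.L.l2, P.L.l1 * P.L.l2, P.L.l2 * P.L.l1, P.L.l1 * (P.L.l2 * P.L.l1),
    P.L.l2 * (P.L.l1 * P.L.l2), P.L.l1 * (P.L.l2 * (P.L.l1 * P.L.l2))].getD k 1

theorem wl_K {k : ℕ} (hk : k < 8) : P.wl k ∈ P.S.K := by
  have h1 := P.L.l1_K
  have h2 := P.L.l2_K
  interval_cases k <;> simp only [wl, List.getD_cons_zero, List.getD_cons_succ]
  exacts [one_mem _, h1, h2, mul_mem h1 h2, mul_mem h2 h1, mul_mem h1 (mul_mem h2 h1),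
    mul_mem h2 (mul_mem h1 h2), mul_mem h1 (mul_mem h2 (mul_mem h1 h2))]

theorem wl_lm {k : ℕ} (hk : k < 8) (t : U6) : F.lm (P.wl k) t = mapsL k t := by
  have D1 : P.L.l1 ∈ F.D := (P.S.mem_K.1 P.L.l1_K).1
  have D2 : P.L.l2 ∈ F.D := (P.S.mem_K.1 P.L.l2_K).1
  interval_cases k <;>
    simp only [wl, mapsL, List.getD_cons_zero, List.getD_cons_succ, F.lm_one, P.L.l1_lm, P.L.l2_lm,
      F.lm_mul D1 D2, F.lm_mul D2 D1, F.lm_mul D1 (mul_mem D2 D1), F.lm_mul D2 (mul_mem D1 D2),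
      F.lm_mul D1 (mul_mem D2 (mul_mem D1 D2))]

theorem wl_mul {k : ℕ} (hk : k < 8) :
    P.wl k * P.L.l1 = P.wl (r1 k) ∧ P.wl k * P.L.l2 = P.wl (r2 k) := by
  obtain ⟨b1, b2, h⟩ := r_ok k hk
  refine ⟨P.S.K_inj (mul_mem (P.wl_K hk) P.L.l1_K) (P.wl_K b1) fun t => ?_,
    P.S.K_inj (mul_mem (P.wl_K hk) P.L.l2_K) (P.wl_K b2) fun t => ?_⟩
  · rw [F.lm_mul (P.S.mem_K.1 (P.wl_K hk)).1 (P.S.mem_K.1 P.L.l1_K).1, P.L.l1_lm, P.wl_lm hk,
      P.wl_lm b1, (h t).1]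
  · rw [F.lm_mul (P.S.mem_K.1 (P.wl_K hk)).1 (P.S.mem_K.1 P.L.l2_K).1, P.L.l2_lm, P.wl_lm hk,
      P.wl_lm b2, (h t).2]

theorem wl_conj {k : ℕ} (hk : k < 8) {e : G} (he : e ∈ P.E6) : P.wl k * e * (P.wl k)⁻¹ ∈ P.E6 := by
  have h1 : ∀ e ∈ P.E6, P.L.l1 * e * P.L.l1⁻¹ ∈ P.E6 := fun e he => P.conj_E6 P.l1_conj he
  have h2 : ∀ e ∈ P.E6, P.L.l2 * e * P.L.l2⁻¹ ∈ P.E6 := fun e he => P.conj_E6 P.l2_conj he
  let M : Submonoid G :=
    { carrier := {g | ∀ e ∈ P.E6, g * e * g⁻¹ ∈ P.E6}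
      one_mem' := fun e he => by simpa using he
      mul_mem' := fun {a b} ha hb e he => by
        rw [show a * b * e * (a * b)⁻¹ = a * (b * e * b⁻¹) * a⁻¹ by group]
        exact ha _ (hb e he) }
  have m1 : P.L.l1 ∈ M := h1
  have m2 : P.L.l2 ∈ M := h2
  have : P.wl k ∈ M := by
    interval_cases k <;> simp only [wl, List.getD_cons_zero, List.getD_cons_succ]
    exacts [one_mem _, m1, m2, mul_mem m1 m2, mul_mem m2 m1, mul_mem m1 (mul_mem m2 m1),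
      mul_mem m2 (mul_mem m1 m2), mul_mem m1 (mul_mem m2 (mul_mem m1 m2))]
  exact this e he

/-- The element with the given parameters. -/
def tt (x : Fin 64 × ZMod 2 × Fin 8) : G := P.ee x.1 * pw P.S.p x.2.1 * P.wl x.2.2

/-- The subgroup of order 1024. -/
def T10 : Subgroup G :=
  Subgroup.closure ({g | ∃ i < 6, P.es i = g} ∪ {P.S.p, P.L.l1, P.L.l2})

theorem T10_form {g : G} (hg : g ∈ P.T10) : ∃ x, P.tt x = g := by
  have step : ∀ x y, y ∈ ({g | ∃ i < 6, P.es i = g} ∪ {P.S.p, P.L.l1, P.L.l2} : Set G) →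
      (∃ X, P.tt X = x) → ∃ X, P.tt X = x * y := by
    rintro _ y hy ⟨⟨e, i, k⟩, rfl⟩
    have hcomm : ∀ {w : G}, w ∈ P.S.K → pw P.S.p i * w = w * pw P.S.p i := fun hw =>
      (pw_comm _ (mul_inv_eq_iff_eq_mul.mp (P.S.p_K hw)).symm i).symm
    simp only [Set.mem_union, Set.mem_ofPred_eq, Set.mem_insert_iff, Set.mem_singleton_iff] at hy
    rcases hy with ⟨j, hj, rfl⟩ | rfl | rfl | rfl
    · have he : pw P.S.p i * (P.wl k * P.es j * (P.wl k)⁻¹) * (pw P.S.p i)⁻¹ ∈ P.E6 := by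
        have h := P.wl_conj k.2 (P.es_mem hj)
        rcases z2 i with rfl | rfl
        · simpa using h
        · rw [pw_one]; exact P.conj_E6 P.p_conj_E6 h
      obtain ⟨e', he', heq⟩ := he
      refine ⟨⟨⟨e.val ^^^ e', Nat.xor_lt_two_pow (n := 6) e.2 he'⟩, i, k⟩, ?_⟩
      simp only [tt, P.ee_xor, heq]
      group
    · refine ⟨⟨e, i + 1, k⟩, ?_⟩
      have hk := (mul_inv_eq_iff_eq_mul.mp (P.S.p_K (P.wl_K k.2))).symm
      simp only [tt, pw_add P.S.p_sq, pw_one, mul_assoc, hk]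
    · exact ⟨⟨e, i, ⟨r1 k, (r_ok k k.2).1⟩⟩, by simp only [tt, ← (P.wl_mul k.2).1, mul_assoc]⟩
    · exact ⟨⟨e, i, ⟨r2 k, (r_ok k k.2).2.1⟩⟩, by simp only [tt, ← (P.wl_mul k.2).2, mul_assoc]⟩
  refine Subgroup.closure_induction_right (p := fun g _ => ∃ X, P.tt X = g) ?_
    (fun x _ y hy hx => step x y hy hx) (fun x _ y hy hx => ?_) hg
  · exact ⟨⟨0, 0, 0⟩, by simp [tt, ee, elAux_zero, wl]⟩
  · have hinv : y⁻¹ = y := by
      refine inv_eq_of_mul_eq_one_right ?_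
      simp only [Set.mem_union, Set.mem_ofPred_eq, Set.mem_insert_iff, Set.mem_singleton_iff] at hy
      rcases hy with ⟨j, hj, rfl⟩ | rfl | rfl | rfl
      exacts [P.es_sq j hj, P.S.p_sq, P.L.l1_sq, P.L.l2_sq]
    rw [hinv]
    exact step x y hy hx

theorem tt_mem (x : Fin 64 × ZMod 2 × Fin 8) : P.tt x ∈ P.T10 := by
  have hb : ∀ g ∈ ({g | ∃ i < 6, P.es i = g} ∪ {P.S.p, P.L.l1, P.L.l2} : Set G), g ∈ P.T10 :=
    fun g hg => Subgroup.subset_closure hg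
  have h1 := hb P.L.l1 (Or.inr (Or.inr (Or.inl rfl)))
  have h2 := hb P.L.l2 (Or.inr (Or.inr (Or.inr rfl)))
  refine mul_mem (mul_mem (elAux_mem 6 _ fun i hi => hb _ (Or.inl ⟨i, hi, rfl⟩))
    (pw_mem (hb _ (Or.inr (Or.inl rfl))) _)) ?_
  obtain ⟨k, hk⟩ := x.2.2
  show P.wl k ∈ P.T10
  interval_cases k <;> simp only [wl, List.getD_cons_zero, List.getD_cons_succ]
  exacts [one_mem _, h1, h2, mul_mem h1 h2, mul_mem h2 h1, mul_mem h1 (mul_mem h2 h1),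
    mul_mem h2 (mul_mem h1 h2), mul_mem h1 (mul_mem h2 (mul_mem h1 h2))]

variable {P}

theorem l_norm {l : G} (hl : l ∈ P.S.K) {L : U6 → U6} (hlm : ∀ t, F.lm l t = L t)
    (hW : ∀ t, InW t → InW (L t)) : l ∈ Subgroup.normalizer (P.Asub : Set G) :=
  P.norm_of_low fun q hq => ⟨F.A_norm (P.S.mem_K.1 hl).1 hq.1, by
    rw [F.κ_lm (P.S.mem_K.1 hl).1 hq.1, hlm]; exact hW _ hq.2⟩

theorem gEl_norm (hs : P.Std) {j : ℕ} (hj : j < 8) :
    P.gEl j ∈ Subgroup.normalizer (P.Asub : Set G) :=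
  P.mem_norm fun i hi => by
    rw [← P.el_single hi, gEl_conj hs hj (Nat.pow_lt_pow_right (n := 11) (a := 2) (by norm_num) hi)]
    exact P.el_mem (tab_lt hj _)

theorem T10_le (hs : P.Std) : P.T10 ≤ Subgroup.normalizer (P.Asub : Set G) := by
  refine (Subgroup.closure_le _).2 ?_
  intro g hg
  simp only [Set.mem_union, Set.mem_ofPred_eq, Set.mem_insert_iff, Set.mem_singleton_iff] at hg
  rcases hg with ⟨i, hi, rfl⟩ | rfl | rfl | rfl
  · have e : P.es i = P.gEl (i + 2) := by interval_cases i <;> rfl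
    rw [e]; exact gEl_norm hs (by omega)
  · exact gEl_norm hs (j := 0) (by norm_num)
  · exact l_norm P.L.l1_K P.L.l1_lm fun t ht => (N_inW t ht).1
  · exact l_norm P.L.l2_K P.L.l2_lm fun t ht => (N_inW t ht).2

theorem tt_inj (hs : P.Std) {x y : Fin 64 × ZMod 2 × Fin 8}
    (h : (P.tt x)⁻¹ * P.tt y ∈ P.Asub) : x = y := by
  obtain ⟨e, i, k⟩ := x
  obtain ⟨e', i', k'⟩ := y
  have hwK := P.wl_K k.2
  have hwD := (P.S.mem_K.1 hwK).1
  have hwD' := (P.S.mem_K.1 (P.wl_K k'.2)).1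
  have heD : ∀ y, P.ee y ∈ F.D := fun y => crd_D (P.ee_crd y)
  have hcomm : ∀ (i : ZMod 2) {w : G}, w ∈ P.S.K → pw P.S.p i * w = w * pw P.S.p i := fun i _ hw =>
    (pw_comm _ (mul_inv_eq_iff_eq_mul.mp (P.S.p_K hw)).symm i).symm
  obtain ⟨a, ha⟩ : ∃ a, a = (P.tt (e, i, k))⁻¹ * P.tt (e', i', k') := ⟨_, rfl⟩
  rw [← ha] at h
  have e1 : P.ee e * P.wl k * (pw P.S.p i * a) = P.ee e' * P.wl k' * pw P.S.p i' := by
    rw [ha, tt, tt, mul_assoc (P.ee e) (pw P.S.p i) (P.wl k), hcomm i hwK,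
      mul_assoc (P.ee e') (pw P.S.p i') (P.wl k'), hcomm i' (P.wl_K k'.2)]
    group
  have hX : pw P.S.p i * a * pw P.S.p i' ∈ F.D := by
    have e2 : pw P.S.p i * a * pw P.S.p i' =
        (P.ee e * P.wl k)⁻¹ * (P.ee e' * P.wl k') * (pw P.S.p i' * pw P.S.p i') := by
      rw [eq_inv_mul_of_mul_eq e1]; group
    rw [e2, pw_sq P.S.p_sq, mul_one]
    exact mul_mem (inv_mem (mul_mem (heD _) hwD)) (mul_mem (heD _) hwD')
  have hp : P.S.p ∉ F.D := by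
    intro hD
    have h := (F.mem_D.1 hD).2
    rw [← mul_inv_eq_iff_eq_mul, P.S.p_cv] at h
    exact F.z_ne (mul_eq_left.mp h)
  obtain ⟨ya, hya, hae⟩ := P.mem_Asub.1 h
  have haD : a ∈ F.D := hae ▸ P.el_D ya
  obtain rfl : i = i' := by
    rcases z2 i with rfl | rfl <;> rcases z2 i' with rfl | rfl <;> first
      | rfl
      | exfalso
    · rw [pw_zero, one_mul, pw_one] at hX
      exact hp (by have := mul_mem (inv_mem haD) hX; rwa [inv_mul_cancel_left] at this)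
    · rw [pw_zero, mul_one, pw_one] at hX
      exact hp (by have := mul_mem hX (inv_mem haD); rwa [mul_inv_cancel_right] at this)
  have hpN := pw_mem (gEl_norm hs (j := 0) (by norm_num)) i
  have ha'A := (Subgroup.mem_normalizer_iff.1 hpN _).1 h
  obtain ⟨y1, hy1, he1⟩ := P.mem_Asub.1 ha'A
  have e3 : P.ee e * P.wl k * P.el y1 = P.ee e' * P.wl k' := by
    have hgp : P.gEl 0 = P.S.p := rfl
    rw [he1, hgp, pw_inv P.S.p_sq, ← mul_assoc, e1, mul_assoc, pw_sq P.S.p_sq, mul_one]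
  have hlmE : ∀ (y : ℕ) (t : U6), F.lm (P.ee y) t = t := fun y t => by
    obtain ⟨a, ha, b, hb, hab, -, -⟩ := P.ee_crd y
    rw [hab, F.lm_mul (F.A_le_D ha) (F.B_le_D hb), F.lm_B hb, F.lm_A ha]
  obtain ⟨rfl, hr⟩ := mapsL_inj k k' (bits3 y1 8) fun t => by
    have h1 := congrArg (fun g => F.lm g t) e3
    simp only [F.lm_mul (mul_mem (heD _) hwD) (P.el_D y1), F.lm_mul (heD _) hwD,
      F.lm_mul (heD _) hwD', hlmE, P.el_lm, P.wl_lm k.2, P.wl_lm k'.2] at h1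
    exact h1
  have hE : P.ee (e.val ^^^ e'.val) = P.wl k * P.el y1 * (P.wl k)⁻¹ := by
    rw [P.ee_xor]
    have hinv : (P.ee e)⁻¹ = P.ee e :=
      inv_eq_of_mul_eq_one_right (by rw [← P.ee_xor, Nat.xor_self]; exact elAux_zero 6)
    calc P.ee e * P.ee e' = (P.ee e)⁻¹ * (P.ee e' * P.wl k) * (P.wl k)⁻¹ := by rw [hinv]; group
      _ = _ := by rw [← e3]; group
  obtain ⟨x1, hx1, ey, -⟩ := P.el_split y1
  rw [hr, P.kf_zero, mul_one] at ey
  have hc := crd_conj_D hwD hx1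
  rw [← ey, ← hE] at hc
  obtain ⟨c1, c2⟩ := crd_uniq hc (P.ee_crd _)
  have hz : ∀ (k : ℕ), k < 8 → ∀ u w : V3, mapsL k (evn u) = odd w → w = 0 := by decide +kernel
  rw [P.wl_lm k.2] at c1 c2
  have b1 := hz _ k.2 _ _ c1
  have b2 := hz _ k.2 _ _ c2
  have h0 : ∀ y < 64, bits3 y 0 = 0 → bits3 y 3 = 0 → y = 0 := by decide +kernel
  obtain rfl : e = e' := Fin.ext (Nat.xor_eq_zero_iff.mp
    (h0 _ (Nat.xor_lt_two_pow (n := 6) e.2 e'.2) b1 b2))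
  rfl

/-- The normaliser splits. -/
theorem exists_compl (hs : P.Std) :
    ∃ K : Subgroup ↥(Subgroup.normalizer (P.Asub : Set G)),
      (P.Asub.subgroupOf (Subgroup.normalizer (P.Asub : Set G))).IsComplement' K := by
  classical
  have hex := exists_hom hs
  have hsurj' := surj (P := P) hs
  set N := Subgroup.normalizer (P.Asub : Set G) with hN
  set K0 := P.Asub.subgroupOf N with hK0
  obtain ⟨φ, hker, hφ⟩ := hex
  have : K0.Normal := hker ▸ φ.normal_ker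
  have : IsMulCommutative K0 := IsMulCommutative.of_comm fun ⟨a, ha⟩ ⟨b, hb⟩ =>
    Subtype.ext (Subtype.ext (P.Asub_comm (Subgroup.mem_subgroupOf.1 ha) (Subgroup.mem_subgroupOf.1 hb)))
  set T := P.T10.subgroupOf N with hT
  let f : Fin 64 × ZMod 2 × Fin 8 → ↥N := fun x => ⟨P.tt x, T10_le hs (P.tt_mem x)⟩
  have hf : ∀ t, t ∈ T ↔ ∃ x, f x = t := fun t => by
    refine ⟨fun ht => ?_, ?_⟩
    · obtain ⟨x, hx⟩ := P.T10_form (Subgroup.mem_subgroupOf.1 ht)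
      exact ⟨x, Subtype.ext hx⟩
    · rintro ⟨x, rfl⟩
      exact Subgroup.mem_subgroupOf.2 (P.tt_mem x)
  have hinj : ∀ x y, φ (f x) = φ (f y) → x = y := fun x y e => by
    have hm : (f x)⁻¹ * f y ∈ φ.ker := by rw [MonoidHom.mem_ker, map_mul, map_inv, e, inv_mul_cancel]
    rw [hker] at hm
    exact tt_inj hs (Subgroup.mem_subgroupOf.1 hm)
  have hAK : T ⊓ K0 = ⊥ := by
    refine (Subgroup.eq_bot_iff_forall _).2 fun t ⟨ht, htK⟩ => ?_
    obtain ⟨x, rfl⟩ := (hf t).1 ht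
    obtain ⟨x0, hx0⟩ := (hf 1).1 (one_mem _)
    have htk : φ (f x) = 1 := MonoidHom.mem_ker.1 (hker ▸ htK)
    rw [hinj x x0 (by rw [htk, hx0, map_one]), hx0]
  have hcard : Nat.card (T.map φ) = 1024 := by
    have e : Nat.card (T.map φ) = Nat.card (Fin 64 × ZMod 2 × Fin 8) := by
      refine (Nat.card_eq_of_bijective
        (fun x => (⟨φ (f x), f x, (hf _).2 ⟨x, rfl⟩, rfl⟩ : ↥(T.map φ)))
        ⟨fun x y e => hinj x y (congrArg Subtype.val e), ?_⟩).symm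
      rintro ⟨_, t, ht, rfl⟩
      obtain ⟨x, rfl⟩ := (hf t).1 ht
      exact ⟨x, rfl⟩
    rw [e, Nat.card_prod, Nat.card_prod, Nat.card_fin, Nat.card_zmod, Nat.card_fin]
  have hsurj := hsurj' φ hφ
  have hidx : (T.map φ).index = 239085 := by
    have h := (T.map φ).index_mul_card
    rw [hcard, Golay.natCard_M24] at h
    omega
  have hU : K0 ⊔ T = (T.map φ).comap φ := by rw [Subgroup.comap_map_eq, sup_comm, hker]
  have hKcard : Nat.card K0 = 2 ^ 11 := by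
    rw [← P.card_Asub]
    exact Nat.card_congr (Subgroup.subgroupOfEquivOfLe Subgroup.le_normalizer).toEquiv
  have hcop : (Nat.card K0).Coprime (K0 ⊔ T).index := by
    rw [hU, Subgroup.index_comap_of_surjective _ hsurj, hidx, hKcard]
    exact Nat.Coprime.pow_left _ (by norm_num)
  exact Solvable.gaschutz_exists le_sup_left hcop hAK rfl

end Pre

end Cfsg.Agent.CoOneA
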